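import Groth.Agent.EtModWLib.EpsMod

/-! inverse images of sheaves of modules on pro-etale sites commute with the underlying abelian sheaves -/

universe u

open CategoryTheory CategoryTheory.Limits AlgebraicGeometry Opposite

namespace Groth.Agent.EtModWLib

set_option backward.isDefEq.respectTransparency.types false

variable (Λ : Type (u + 1)) [CommRing Λ] {S X : Scheme.{u}} (G : S.ProEt ⥤ X.ProEt)
  [G.IsContinuous (Scheme.ProEt.topology S) (Scheme.ProEt.topology X)]

/-- the extension of presheaves commutes with the underlying abelian groups -/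
noncomputable def lanAbIso' : (G.op.lan : (S.ProEtᵒᵖ ⥤ ModuleCat.{u + 1} Λ) ⥤ _) ⋙
      (Functor.whiskeringRight _ _ _).obj (forget₂ (ModuleCat.{u + 1} Λ) AddCommGrpCat.{u + 1}) ≅
    (Functor.whiskeringRight _ _ _).obj (forget₂ (ModuleCat.{u + 1} Λ) AddCommGrpCat.{u + 1}) ⋙ G.op.lan :=
  haveI hK : ∀ K, PreservesColimitsOfShape (CostructuredArrow G.op K)
      (forget₂ (ModuleCat.{u + 1} Λ) AddCommGrpCat.{u + 1}) := fun K => inferInstance
  haveI : ∀ F : S.ProEtᵒᵖ ⥤ ModuleCat.{u + 1} Λ,
      (forget₂ (ModuleCat.{u + 1} Λ) AddCommGrpCat.{u + 1}).PreservesPointwiseLeftKanExtension F G.op :=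
    fun F K => inferInstance
  (forget₂ (ModuleCat.{u + 1} Λ) AddCommGrpCat.{u + 1}).lanCompIsoOfPreserves G.op

/-- inverse image commutes with the passage to the underlying abelian sheaves -/
noncomputable def abPullIso :
    G.sheafPullback (ModuleCat.{u + 1} Λ) (Scheme.ProEt.topology S) (Scheme.ProEt.topology X) ⋙ abPro Λ X ≅
      abPro Λ S ⋙ G.sheafPullback AddCommGrpCat.{u + 1} (Scheme.ProEt.topology S) (Scheme.ProEt.topology X) :=
  Functor.isoWhiskerRight (Functor.sheafPullbackConstruction.sheafPullbackIso G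
      (ModuleCat.{u + 1} Λ) (Scheme.ProEt.topology S) (Scheme.ProEt.topology X)) (abPro Λ X) ≪≫
  (Functor.isoWhiskerLeft (sheafToPresheaf _ _ ⋙ G.op.lan) (sheafifyAbIso Λ X) :
    Functor.sheafPullbackConstruction.sheafPullback G (ModuleCat.{u + 1} Λ) (Scheme.ProEt.topology S)
      (Scheme.ProEt.topology X) ⋙ abPro Λ X ≅ _) ≪≫
  (Functor.isoWhiskerLeft (sheafToPresheaf _ _) (Functor.isoWhiskerRight (lanAbIso' Λ G)
    (presheafToSheaf (Scheme.ProEt.topology X) AddCommGrpCat.{u + 1})) :
    _ ≅ abPro Λ S ⋙ Functor.sheafPullbackConstruction.sheafPullback G AddCommGrpCat.{u + 1}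
      (Scheme.ProEt.topology S) (Scheme.ProEt.topology X)) ≪≫
  Functor.isoWhiskerLeft (abPro Λ S) (Functor.sheafPullbackConstruction.sheafPullbackIso G
    AddCommGrpCat.{u + 1} (Scheme.ProEt.topology S) (Scheme.ProEt.topology X)).symm

end Groth.Agent.EtModWLib
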