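import Groth.Agent.EtModWLib.AdicP.Kernels
import Groth.Agent.ARLib.StrictChains

/-! increasing chains of adic subsheaves of adic pro-etale sheaves are stationary -/

universe u

open CategoryTheory CategoryTheory.Limits AlgebraicGeometry Opposite

namespace Groth.Agent.EtModWLib

set_option backward.isDefEq.respectTransparency.types false

variable {Λ : Type (u + 1)} [CommRing Λ] [IsNoetherianRing Λ] {X : Scheme.{u}} [IsLocallyNoetherian X]
  [CompactSpace X] [ProEtS.EpsCont X] {I : Ideal Λ}

theorem chain_stabilizes_adicP {F : EtModW.ModP Λ X} (hF : IsAdicP I F) (Z : ℕ →o Subobject F)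
    (hZ : ∀ k, IsAdicP I (Subobject.underlying.obj (Z k) : EtModW.ModP Λ X)) :
    ∃ k₀ : ℕ, ∀ k : ℕ, k₀ ≤ k → Z k = Z k₀ := by
  have hI : I.FG := IsNoetherian.noetherian I
  obtain ⟨A, hA, hAc, ⟨a⟩⟩ := hF.exists_system
  choose G hG hGc z' using fun k => (hZ k).exists_system
  let z : ∀ k, (limEps Λ X).obj (G k) ≅ Subobject.underlying.obj (Z k) := fun k => (z' k).some
  choose g hg using fun k => exists_limEps_map hI (hG k) hA ((z k).hom ≫ (Z k).arrow ≫ a.inv)
  have hle : ∀ k, imageSubobject (g k) ≤ imageSubobject (g (k + 1)) := fun k => by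
    obtain ⟨h, hh⟩ := exists_limEps_map hI (hG k) (hG (k + 1))
      ((z k).hom ≫ Subobject.ofLE _ _ (Z.monotone (Nat.le_succ k)) ≫ (z (k + 1)).inv)
    have e : h ≫ g (k + 1) = g k := limEps_map_injective hI (hG k) hA (by
      rw [Functor.map_comp, hh, hg, hg]
      simp)
    exact le_of_eq_of_le (congrArg (fun f => imageSubobject f) e.symm) (imageSubobject_comp_le _ _)
  let M : ℕ →o Subobject A := ⟨fun k => imageSubobject (g k), monotone_nat_of_le_succ hle⟩
  obtain ⟨k₀, hk₀⟩ := ARLib.strict_chain_stabilizes (J := I)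
    ⟨hA, fun n => isNoetherianObject_of_isConstructible (hAc n)⟩ M
    fun k => ARLib.isStrict_of_epi (factorThruImageSubobject (g k)) (ARLib.isStrict_of_isAdic (hG k))
  -- the limit of each image is the given subsheaf
  have key : ∀ k, Z k = Subobject.mk ((limEps Λ X).map (M k).arrow ≫ a.hom) := fun k => by
    let e := factorThruImageSubobject (g k)
    let j := (imageSubobject (g k)).arrow
    have hej : e ≫ j = g k := imageSubobject_arrow_comp _
    have hs : (ShortComplex.mk (kernel.ι e) e (kernel.condition e)).ShortExact :=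
      { exact := ShortComplex.exact_of_f_is_kernel _ (kernelIsKernel e) }
    have hK : ARSys.IsARAdicNoeth I (kernel (g k)) :=
      (ARLib.isARAdicNoeth_kernel_cokernel (g k) (isARAdicNoeth_of (hG k) (hGc k)) (isARAdicNoeth_of hA hAc)).1
    have hepi : Epi ((limEps Λ X).map e) := by
      obtain ⟨-, Y, v, hY, hv⟩ := hK.1
      let i : kernel (g k) ≅ kernel e := kernelIsoOfEq hej.symm ≪≫ kernelCompMono e j
      have hi : ARSys.IsARIso i.hom :=
        ⟨(ARLib.isARNull_iff _).2 ⟨0, fun n m h _ => (((evaluation ℕᵒᵖ _).obj (op m)).map_isZero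
          (Limits.isZero_kernel_of_mono i.hom)).eq_of_src _ _⟩,
        (ARLib.isARNull_iff _).2 ⟨0, fun n m h _ => (((evaluation ℕᵒᵖ _).obj (op m)).map_isZero
          (Limits.isZero_cokernel_of_epi i.hom)).eq_of_src _ _⟩⟩
      exact epi_limMap_eps _ hs ⟨Y, v ≫ i.hom, hY, ARLib.isARIso_comp hv hi⟩
    have hcomp : (limEps Λ X).map e ≫ (limEps Λ X).map j = (z k).hom ≫ (Z k).arrow ≫ a.inv := by
      rw [← Functor.map_comp, hej, hg]
    have : Mono ((limEps Λ X).map e ≫ (limEps Λ X).map j) := by
      rw [hcomp]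
      infer_instance
    have : Mono ((limEps Λ X).map e) := mono_of_mono _ ((limEps Λ X).map j)
    have : IsIso ((limEps Λ X).map e) := isIso_of_mono_of_epi _
    refine Subobject.eq_mk_of_comm _ ((z k).symm ≪≫ asIso ((limEps Λ X).map e)) ?_
    show ((z k).inv ≫ (limEps Λ X).map e) ≫ (limEps Λ X).map j ≫ a.hom = _
    refine (Category.assoc _ _ _).trans ((congrArg ((z k).inv ≫ ·)
      ((Category.assoc _ _ _).symm.trans (congrArg (· ≫ a.hom) hcomp))).trans ?_)
    simp
  refine ⟨k₀, fun k hk => ?_⟩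
  rw [key k, key k₀]
  exact congrArg (fun S : Subobject A => Subobject.mk ((limEps Λ X).map S.arrow ≫ a.hom)) (hk₀ k hk)

end Groth.Agent.EtModWLib
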