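import Groth.Agent.ProEtLib.Basic

/-! composition with a weakly etale morphism is continuous on small pro-etale sites -/

universe u

open CategoryTheory CategoryTheory.Limits AlgebraicGeometry Opposite

namespace Groth.Agent.EtModWLib

set_option backward.isDefEq.respectTransparency.types false

theorem jpCont {U X : Scheme.{u}} (j : U ⟶ X) [WeaklyEtale j] : ProEtS.JPCont j := by
  have hp : PreservesLimitsOfShape WalkingCospan (ProEtS.compP j) := by
    have : PreservesLimitsOfShape WalkingCospan (CategoryTheory.Over.map j) := by
      have : PreservesLimitsOfShape WalkingCospan (CategoryTheory.Over.map j ⋙ CategoryTheory.Over.forget X) :=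
        preservesLimitsOfShape_of_natIso (Iso.refl (CategoryTheory.Over.forget U))
      exact preservesLimitsOfShape_of_reflects_of_preserves _ (CategoryTheory.Over.forget X)
    have : PreservesLimitsOfShape WalkingCospan (ProEtS.compP j ⋙ Scheme.ProEt.forget X) :=
      preservesLimitsOfShape_of_natIso
        (NatIso.ofComponents (fun _ => Iso.refl _) (by cat_disch) :
          Scheme.ProEt.forget U ⋙ CategoryTheory.Over.map j ≅ ProEtS.compP j ⋙ Scheme.ProEt.forget X)
    exact preservesLimitsOfShape_of_reflects_of_preserves _ (Scheme.ProEt.forget X)
  have : (Scheme.ProEt.precoverage X).IsStableUnderBaseChange := by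
    unfold Scheme.ProEt.precoverage; infer_instance
  have : (Scheme.ProEt.precoverage U).IsStableUnderBaseChange := by
    unfold Scheme.ProEt.precoverage; infer_instance
  have : (Scheme.ProEt.precoverage X).HasPullbacks := by
    unfold Scheme.ProEt.precoverage; infer_instance
  have : (Scheme.ProEt.precoverage U).HasPullbacks := by
    unfold Scheme.ProEt.precoverage; infer_instance
  refine Functor.isContinuous_toGrothendieck_of_pullbacksPreservedBy (F := ProEtS.compP j)
    (J := Scheme.ProEt.precoverage U) (K := Scheme.ProEt.precoverage X) fun {V} R hR => ?_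
  obtain ⟨ι, W, g, rfl⟩ := R.exists_eq_ofArrows
  rw [ProEtLib.ofArrows_mem_precoverage_iff] at hR
  rw [Precoverage.mem_comap_iff, Presieve.map_ofArrows, ProEtLib.ofArrows_mem_precoverage_iff]
  exact hR

end Groth.Agent.EtModWLib
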