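import Groth.Agent.EtModWLib.AdicP.Recollement
import Groth.Agent.EtModWLib.AdicP.JP
import Groth.Agent.EtFound.JContGen
import Groth.Agent.H23.RedSub
import Mathlib.Topology.Constructible

/-! sheaves coming from the etale site: local and stratum-wise criteria -/

universe u

open CategoryTheory CategoryTheory.Limits AlgebraicGeometry Opposite

namespace Groth.Agent.EtModWLib

set_option backward.isDefEq.respectTransparency.types false

instance epsCont' (X : Scheme.{u}) : ProEtS.EpsCont X := ProEtLib.epsCont X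

instance pCont' {X Y : Scheme.{u}} (f : X ⟶ Y) : ProEtS.PCont f := ProEtLib.pCont f

instance jpCont' {U X : Scheme.{u}} (j : U ⟶ X) [WeaklyEtale j] : ProEtS.JPCont j := jpCont j

variable (Λ : Type (u + 1)) [CommRing Λ]

/-- coming from the etale site -/
def IsCl {X : Scheme.{u}} (F : EtModW.ModP Λ X) : Prop := (EtModW.epsPullMod Λ X).essImage F

/-- inverse images compose -/
noncomputable def pullCompPM {X Y Z : Scheme.{u}} (h : X ⟶ Y) (f : Y ⟶ Z) :
    pullPM Λ (h ≫ f) ≅ pullPM Λ f ⋙ pullPM Λ h :=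
  Adjunction.leftAdjointUniq (pullPushPM Λ (h ≫ f))
    (((pullPushPM Λ f).comp (pullPushPM Λ h)).ofNatIsoRight
      (Functor.sheafPushforwardContinuousComp' (F := ProEtS.bcP f) (G := ProEtS.bcP h) (FG := ProEtS.bcP (h ≫ f))
        ((MorphismProperty.Over.pullbackComp (P := @WeaklyEtale) (Q := ⊤) h f).symm :
          ProEtS.bcP f ⋙ ProEtS.bcP h ≅ ProEtS.bcP (h ≫ f))
        (ModuleCat.{u + 1} Λ) (Scheme.ProEt.topology Z) (Scheme.ProEt.topology Y) (Scheme.ProEt.topology X)))

variable {Λ}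

theorem IsCl.of_iso {X : Scheme.{u}} {F F' : EtModW.ModP Λ X} (h : IsCl Λ F) (e : F ≅ F') : IsCl Λ F' := by
  obtain ⟨E, ⟨a⟩⟩ := h
  exact ⟨E, ⟨a ≪≫ e⟩⟩

theorem IsCl.pull {X Y : Scheme.{u}} {F : EtModW.ModP Λ Y} (h : IsCl Λ F) (f : X ⟶ Y) :
    IsCl Λ ((pullPM Λ f).obj F) := by
  obtain ⟨E, ⟨a⟩⟩ := h
  exact ⟨_, ⟨(pullEpsIso Λ f).app E ≪≫ (pullPM Λ f).mapIso a⟩⟩

theorem isCl_of_isEmpty {X : Scheme.{u}} [IsEmpty X] (F : EtModW.ModP Λ X) : IsCl Λ F := by
  have : ∀ A : EtModW.ModP Λ X, IsZero A := fun A => ProEtDCLib.isZero_of_wc A fun V _ x => by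
    haveI : IsEmpty V.left := ⟨fun v => (IsEmpty.false (α := X) (V.hom.base v))⟩
    exact @Subsingleton.elim (A.obj.obj (op V))
      (ProEtLib.subsingleton_of_isEmpty ((sheafCompose _ (forget (ModuleCat.{u + 1} Λ))).obj A) V) x 0
  exact ⟨((ProEtS.eps X).sheafPushforwardContinuous (ModuleCat.{u + 1} Λ) X.smallEtaleTopology
    (Scheme.ProEt.topology X)).obj F, ⟨(this _).iso (this F)⟩⟩

/-- a sheaf coming from the etale site on an open part and its closed complement comes from the etale site -/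
theorem isCl_of_parts {U Z X : Scheme.{u}} [QuasiSeparatedSpace X] {j : U ⟶ X} [IsOpenImmersion j] [QuasiCompact j]
    {i : Z ⟶ X} [IsClosedImmersion i] (hc : Set.range j.base = (Set.range i.base)ᶜ) {F : EtModW.ModP Λ X}
    (hU : IsCl Λ ((pullPM Λ j).obj F)) (hZ : IsCl Λ ((pullPM Λ i).obj F)) : IsCl Λ F := by
  obtain ⟨w, hS⟩ := recollementPM (j := j) (i := i) hc F
  refine essImage_epsPullMod_extension hS ?_ ?_
  · obtain ⟨E, ⟨a⟩⟩ := hU.of_iso ((restrPullIso Λ j).app F).symm
    haveI : EtShriek.JCont j := EtFound.jCont j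
    refine ⟨_, ⟨(extEpsIso Λ j (EtShriek.compEtale j)
      (NatIso.ofComponents (fun V => MorphismProperty.Over.isoMk (Iso.refl _) (Category.id_comp _)) fun g => ?_)).app E
      ≪≫ (extPM Λ j).mapIso a⟩⟩
    refine MorphismProperty.Over.Hom.ext ?_
    refine (Category.comp_id _).trans (Eq.trans ?_ (Category.id_comp _).symm)
    rfl
  · obtain ⟨E, ⟨a⟩⟩ := hZ
    obtain ⟨b⟩ := exists_pushPM_iso (Λ := Λ) (f := i) E
    exact ⟨_, ⟨b ≪≫ (pushPM Λ i).mapIso a⟩⟩

/-- the reduced closed subscheme on a closed subset -/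
theorem exists_reduced_closed {Y : Scheme.{u}} (C : Set Y) (hC : IsClosed C) :
    ∃ (Z : Scheme.{u}) (i : Z ⟶ Y), IsClosedImmersion i ∧ IsReduced Z ∧ Set.range i.base = C := by
  let I := Scheme.IdealSheafData.vanishingIdeal (⟨C, hC⟩ : TopologicalSpace.Closeds Y)
  exact ⟨I.subscheme, I.subschemeι, inferInstance, H23.RedSub.isReduced_vanishingIdeal _,
    by rw [Scheme.IdealSheafData.range_subschemeι, Scheme.IdealSheafData.coe_support_vanishingIdeal]; rfl⟩

/-- sheaves coming from the etale site on all cells of finitely many quasi-compact opens -/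
theorem isCl_of_cells {X : Scheme.{u}} (F : EtModW.ModP Λ X) : ∀ (n : ℕ) (Y : Scheme.{u}) [IsReduced Y]
    [CompactSpace Y] [QuasiSeparatedSpace Y] (h : Y ⟶ X) (O : Fin n → Y.Opens),
    (∀ k, IsCompact (O k : Set Y)) →
    (∀ (S : Scheme.{u}) (s : S ⟶ Y), IsImmersion s → IsReduced S →
      (∀ k, Set.range s.base ⊆ O k ∨ Disjoint (Set.range s.base) (O k)) → IsCl Λ ((pullPM Λ (s ≫ h)).obj F)) →
    IsCl Λ ((pullPM Λ h).obj F) := by
  intro n
  induction n with
  | zero =>
    intro Y _ _ _ h O _ hS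
    have := hS Y (𝟙 Y) inferInstance inferInstance fun k => k.elim0
    rwa [Category.id_comp] at this
  | succ n ih =>
    intro Y _ _ _ h O hO hS
    let W := O (Fin.last n)
    obtain ⟨Z, i, hi, hZred, hr⟩ := exists_reduced_closed ((W : Set Y)ᶜ) W.2.isClosed_compl
    haveI : CompactSpace W.toScheme := isCompact_iff_compactSpace.1 (hO _)
    haveI : QuasiSeparatedSpace W.toScheme := quasiSeparatedSpace_of_quasiSeparated W.ι
    haveI : QuasiCompact W.ι := quasiCompact_of_compactSpace _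
    haveI : CompactSpace Z := QuasiCompact.compactSpace_of_compactSpace i
    haveI : QuasiSeparatedSpace Z := quasiSeparatedSpace_of_quasiSeparated i
    have hj : Set.range W.ι.base = (Set.range i.base)ᶜ := by rw [hr, compl_compl, Scheme.Opens.range_ι]
    refine isCl_of_parts hj ?_ ?_
    · refine (ih W.toScheme (W.ι ≫ h) (fun k => W.ι ⁻¹ᵁ O k.castSucc)
        (fun k => QuasiCompact.isCompact_preimage _ (O k.castSucc).2 (hO _)) fun S s hs hred hk => ?_).of_iso
        ((pullCompPM Λ W.ι h).app F)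
      rw [← Category.assoc]
      refine hS S (s ≫ W.ι) inferInstance hred fun k => ?_
      rcases Fin.eq_castSucc_or_eq_last k with ⟨k, rfl⟩ | rfl
      · rcases hk k with h1 | h1
        · left
          rintro _ ⟨x, rfl⟩
          exact h1 ⟨x, rfl⟩
        · right
          refine Set.disjoint_left.2 ?_
          rintro _ ⟨x, rfl⟩ hx
          exact Set.disjoint_left.1 h1 ⟨x, rfl⟩ hx
      · left
        rintro _ ⟨x, rfl⟩
        exact (s.base x).2
    · refine (ih Z (i ≫ h) (fun k => i ⁻¹ᵁ O k.castSucc)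
        (fun k => QuasiCompact.isCompact_preimage _ (O k.castSucc).2 (hO _)) fun S s hs hred hk => ?_).of_iso
        ((pullCompPM Λ i h).app F)
      rw [← Category.assoc]
      refine hS S (s ≫ i) inferInstance hred fun k => ?_
      rcases Fin.eq_castSucc_or_eq_last k with ⟨k, rfl⟩ | rfl
      · rcases hk k with h1 | h1
        · left
          rintro _ ⟨x, rfl⟩
          exact h1 ⟨x, rfl⟩
        · right
          refine Set.disjoint_left.2 ?_
          rintro _ ⟨x, rfl⟩ hx
          exact Set.disjoint_left.1 h1 ⟨x, rfl⟩ hx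
      · right
        refine Set.disjoint_left.2 ?_
        rintro _ ⟨x, rfl⟩ hx
        exact (hr.le ⟨s.base x, rfl⟩) hx

/-- constructible subsets are determined by finitely many quasi-compact opens -/
theorem exists_opens_of_isConstructible {Y : Scheme.{u}} [CompactSpace Y] {E : Set Y}
    (hE : Topology.IsConstructible E) : ∃ (n : ℕ) (O : Fin n → Y.Opens), (∀ k, IsCompact (O k : Set Y)) ∧
      ∀ x y, (∀ k, x ∈ O k ↔ y ∈ O k) → (x ∈ E ↔ y ∈ E) := by
  induction hE using Topology.IsConstructible.empty_union_induction with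
  | open_retrocompact U hU hc =>
    exact ⟨1, fun _ => ⟨U, hU⟩, fun _ => hc.isCompact, fun x y h => h 0⟩
  | union s hs t ht hs' ht' =>
    obtain ⟨n, O, hO, h⟩ := hs'
    obtain ⟨m, P, hP, h'⟩ := ht'
    refine ⟨n + m, Fin.append O P, fun k => ?_, fun x y hxy => ?_⟩
    · induction k using Fin.addCases with
      | left k => rw [Fin.append_left]; exact hO k
      | right k => rw [Fin.append_right]; exact hP k
    · refine or_congr (h x y fun k => ?_) (h' x y fun k => ?_)
      · simpa using hxy (Fin.castAdd m k)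
      · simpa using hxy (Fin.natAdd n k)
  | compl s hs hs' =>
    obtain ⟨n, O, hO, h⟩ := hs'
    exact ⟨n, O, hO, fun x y hxy => not_congr (h x y hxy)⟩

/-- sheaves coming from the etale site on the strata of an affine scheme come from the etale site -/
theorem isCl_of_strata {X : Scheme.{u}} (U : X.Opens) (hU : IsAffineOpen U) (F : EtModW.ModP Λ X) {m : ℕ}
    (T : Fin m → Scheme.{u}) (g : ∀ i, T i ⟶ X) (hg : ∀ i, IsImmersion (g i))
    (hc : ∀ i, Topology.IsConstructible ((Subtype.val : ↥(U : Set X) → X) ⁻¹' Set.range (g i).base))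
    (hu : (⋃ i, Set.range (g i).base) = (U : Set X)) (hT : ∀ i, IsCl Λ ((pullPM Λ (g i)).obj F)) :
    IsCl Λ ((pullPM Λ U.ι).obj F) := by
  haveI : IsAffine U.toScheme := hU
  choose n O hO hE using fun i => exists_opens_of_isConstructible (Y := U.toScheme) (hc i)
  obtain ⟨N, ⟨σ⟩⟩ := Finite.exists_equiv_fin (Σ i : Fin m, Fin (n i))
  obtain ⟨R, r, hr, hRred, hrange⟩ := exists_reduced_closed (Y := U.toScheme) Set.univ isClosed_univ
  haveI : CompactSpace R := QuasiCompact.compactSpace_of_compactSpace r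
  haveI : QuasiSeparatedSpace R := quasiSeparatedSpace_of_quasiSeparated r
  have hR : IsCl Λ ((pullPM Λ (r ≫ U.ι)).obj F) := by
    refine isCl_of_cells F N R (r ≫ U.ι) (fun k => r ⁻¹ᵁ O (σ.symm k).1 (σ.symm k).2)
      (fun k => QuasiCompact.isCompact_preimage _ (O _ _).2 (hO _ _)) fun S s hs hred hk => ?_
    by_cases hemp : IsEmpty S
    · exact isCl_of_isEmpty _
    obtain ⟨x₀⟩ := not_isEmpty_iff.1 hemp
    obtain ⟨i, hi⟩ := Set.mem_iUnion.1 (hu.ge (r.base (s.base x₀)).2)
    have hsub : Set.range (s ≫ r ≫ U.ι).base ⊆ Set.range (g i).base := by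
      rintro _ ⟨x, rfl⟩
      refine (hE i (r.base (s.base x₀)) (r.base (s.base x)) fun l => ?_).1 hi
      have key := hk (σ ⟨i, l⟩)
      rw [Equiv.symm_apply_apply] at key
      rcases key with h1 | h1
      · exact iff_of_true (h1 ⟨x₀, rfl⟩) (h1 ⟨x, rfl⟩)
      · exact iff_of_false (fun h' => Set.disjoint_left.1 h1 ⟨x₀, rfl⟩ h')
          (fun h' => Set.disjoint_left.1 h1 ⟨x, rfl⟩ h')
    let p := pullback.fst (s ≫ r ≫ U.ι) (g i)
    haveI := hg i
    haveI : IsImmersion p := MorphismProperty.pullback_fst _ _ (hg i)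
    have hp : Set.range p.base = Set.univ := by
      rw [Scheme.Pullback.range_fst]
      exact Set.eq_univ_of_forall fun x => hsub ⟨x, rfl⟩
    haveI : IsClosedImmersion p := IsClosedImmersion.of_isPreimmersion p (by rw [hp]; exact isClosed_univ)
    haveI : Surjective p := ⟨Set.range_eq_univ.1 hp⟩
    haveI := hred
    haveI : IsIso p := isIso_of_isClosedImmersion_of_surjective p
    have e : s ≫ r ≫ U.ι = (inv p ≫ pullback.snd _ (g i)) ≫ g i := by
      rw [Category.assoc, ← pullback.condition, IsIso.inv_hom_id_assoc]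
    rw [e]
    exact ((hT i).pull _).of_iso ((pullCompPM Λ _ (g i)).app F).symm
  haveI : IsEmpty (⊥ : U.toScheme.Opens).toScheme := ⟨fun x => x.2⟩
  haveI : CompactSpace (⊥ : U.toScheme.Opens).toScheme := inferInstance
  haveI : QuasiCompact (⊥ : U.toScheme.Opens).ι := quasiCompact_of_compactSpace _
  refine isCl_of_parts (j := (⊥ : U.toScheme.Opens).ι) (i := r) ?_ ?_ (hR.of_iso ((pullCompPM Λ r U.ι).app F))
  · rw [Scheme.Opens.range_ι, hrange, Set.compl_univ]
    rfl
  · exact isCl_of_isEmpty _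

end Groth.Agent.EtModWLib
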