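import Groth.Agent.EtModWLib.AdicP.Classical

/-! coming from the etale site is Zariski local -/

universe u

open CategoryTheory CategoryTheory.Limits AlgebraicGeometry Opposite

namespace Groth.Agent.EtModWLib

open ProEtDCLib (sec)

set_option backward.isDefEq.respectTransparency.types false

variable (Λ : Type (u + 1)) [CommRing Λ]

/-- the direct image from the pro-etale to the etale site -/
noncomputable abbrev epsPushPM (X : Scheme.{u}) : EtModW.ModP Λ X ⥤ EtModW.Mod Λ X :=
  (ProEtS.eps X).sheafPushforwardContinuous (ModuleCat.{u + 1} Λ) X.smallEtaleTopology (Scheme.ProEt.topology X)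

/-- direct image to the etale site commutes with restriction -/
noncomputable def epsPushRestrIso {U X : Scheme.{u}} (j : U ⟶ X) [WeaklyEtale j] [Etale j] [EtShriek.JCont j] :
    restrPM Λ j ⋙ epsPushPM Λ U ≅ epsPushPM Λ X ⋙
      (EtShriek.compEtale j).sheafPushforwardContinuous (ModuleCat.{u + 1} Λ) U.smallEtaleTopology X.smallEtaleTopology :=
  haveI := Functor.isContinuous_comp (ProEtS.eps U) (ProEtS.compP j) U.smallEtaleTopology (Scheme.ProEt.topology U)
    (Scheme.ProEt.topology X)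
  Functor.sheafPushforwardContinuousComp' (F := ProEtS.eps U) (G := ProEtS.compP j)
      (FG := ProEtS.eps U ⋙ ProEtS.compP j) (Iso.refl _)
      (ModuleCat.{u + 1} Λ) U.smallEtaleTopology (Scheme.ProEt.topology U) (Scheme.ProEt.topology X) ≪≫
    (Functor.sheafPushforwardContinuousComp' (F := EtShriek.compEtale j) (G := ProEtS.eps X)
      (FG := ProEtS.eps U ⋙ ProEtS.compP j)
      (NatIso.ofComponents (fun V => MorphismProperty.Over.isoMk (Iso.refl _) (Category.id_comp _)) fun g => by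
        refine MorphismProperty.Over.Hom.ext ?_
        refine (Category.comp_id _).trans (Eq.trans ?_ (Category.id_comp _).symm)
        rfl)
      (ModuleCat.{u + 1} Λ) U.smallEtaleTopology X.smallEtaleTopology (Scheme.ProEt.topology X)).symm

variable {Λ}

/-- morphisms between sheaves from the etale site are detected on the etale site -/
theorem isIso_of_epsPush {X : Scheme.{u}} {A B : EtModW.ModP Λ X} (hA : IsCl Λ A) (hB : IsCl Λ B) (c : A ⟶ B)
    [IsIso ((epsPushPM Λ X).map c)] : IsIso c := by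
  haveI : IsIso ((epsAdjMod Λ X).counit.app A) := (epsAdjMod Λ X).isIso_counit_app_iff_mem_essImage.2 hA
  haveI : IsIso ((epsAdjMod Λ X).counit.app B) := (epsAdjMod Λ X).isIso_counit_app_iff_mem_essImage.2 hB
  have h := (epsAdjMod Λ X).counit.naturality c
  haveI : IsIso ((epsAdjMod Λ X).counit.app A ≫ c) := by
    rw [show (epsAdjMod Λ X).counit.app A ≫ c =
      (EtModW.epsPullMod Λ X).map ((epsPushPM Λ X).map c) ≫ (epsAdjMod Λ X).counit.app B from h.symm]
    infer_instance
  exact IsIso.of_isIso_comp_left ((epsAdjMod Λ X).counit.app A) c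

/-- coming from the etale site is local for open covers -/
theorem isCl_of_openCover {X : Scheme.{u}} (F : EtModW.ModP Λ X) {κ : Type u} (W : κ → X.Opens)
    (hW : ∀ x, ∃ k, x ∈ W k) (h : ∀ k, IsCl Λ ((pullPM Λ (W k).ι).obj F)) : IsCl Λ F := by
  let R := epsPushPM Λ X
  let c := (epsAdjMod Λ X).counit.app F
  haveI hRc : IsIso (R.map c) := by
    haveI : IsIso ((epsAdjMod Λ X).unit.app (R.obj F)) := inferInstance
    haveI : IsIso ((epsAdjMod Λ X).unit.app (R.obj F) ≫ R.map c) := by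
      rw [(epsAdjMod Λ X).right_triangle_components F]
      exact IsIso.id _
    exact IsIso.of_isIso_comp_left ((epsAdjMod Λ X).unit.app (R.obj F)) (R.map c)
  have hres : ∀ k, IsIso ((restrPM Λ (W k).ι).map c) := fun k => by
    haveI : EtShriek.JCont (W k).ι := EtFound.jCont _
    haveI : IsIso ((restrPM Λ (W k).ι ⋙ epsPushPM Λ (W k).toScheme).map c) :=
      (NatIso.isIso_map_iff (epsPushRestrIso Λ (W k).ι) c).2
        (@Functor.map_isIso _ _ _ _ _ _ ((EtShriek.compEtale (W k).ι).sheafPushforwardContinuous (ModuleCat.{u + 1} Λ)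
          (W k).toScheme.smallEtaleTopology X.smallEtaleTopology) _ hRc)
    haveI : IsIso ((epsPushPM Λ (W k).toScheme).map ((restrPM Λ (W k).ι).map c)) := ‹_›
    refine isIso_of_epsPush ?_ ((h k).of_iso ((restrPullIso Λ (W k).ι).app F).symm) _
    exact IsCl.of_iso ((IsCl.pull ⟨R.obj F, ⟨Iso.refl _⟩⟩ (W k).ι))
      ((restrPullIso Λ (W k).ι).app _).symm
  have hb : ∀ (T : X.ProEt) (k : κ), (∀ t, T.hom.base t ∈ W k) →
      Function.Bijective ((sec Λ T).map c) := fun T k hT => by
    let q : T.left ⟶ (W k).toScheme := IsOpenImmersion.lift (W k).ι T.hom (by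
      rintro _ ⟨x, rfl⟩
      rw [Scheme.Opens.range_ι]
      exact hT x)
    have hq : q ≫ (W k).ι = T.hom := IsOpenImmersion.lift_fac _ _ _
    haveI : WeaklyEtale q := by
      haveI : WeaklyEtale T.hom := T.prop
      haveI : WeaklyEtale (q ≫ (W k).ι) := by rw [hq]; infer_instance
      exact MorphismProperty.of_postcomp (W := @WeaklyEtale) (W' := @WeaklyEtale) q (W k).ι inferInstance inferInstance
    let e : (ProEtS.compP (W k).ι).obj (Scheme.ProEt.mk q) ≅ T :=
      MorphismProperty.Over.isoMk (Iso.refl _) ((Category.id_comp _).trans hq.symm)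
    haveI := hres k
    haveI : IsIso (c.hom.app (op ((ProEtS.compP (W k).ι).obj (Scheme.ProEt.mk q)))) :=
      inferInstanceAs (IsIso ((sec Λ (Scheme.ProEt.mk q)).map ((restrPM Λ (W k).ι).map c)))
    haveI : IsIso ((sec Λ T).map c) := (NatTrans.isIso_app_iff_of_iso c.hom e.op).2 ‹_›
    exact ConcreteCategory.bijective_of_isIso _
  have hcov : ∀ T : X.ProEt, Sieve.generate (Presieve.ofArrows
      (fun k => ProEtLib.opObj T (T.hom ⁻¹ᵁ W k)) fun k => ProEtLib.opHom T (T.hom ⁻¹ᵁ W k)) ∈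
      Scheme.ProEt.topology X T := fun T =>
    ProEtLib.opens_mem_topology T (fun k => T.hom ⁻¹ᵁ W k) fun x => hW (T.hom.base x)
  have hpiece : ∀ (T : X.ProEt) (k : κ), Function.Bijective ((sec Λ (ProEtLib.opObj T (T.hom ⁻¹ᵁ W k))).map c) :=
    fun T k => hb _ k fun t => t.2
  haveI : IsIso c := by
    refine (Sheaf.isLocallyBijective_iff_isIso c).1 ⟨⟨fun {T} x y hxy => ?_⟩, ⟨fun {T} s => ?_⟩⟩
    · refine GrothendieckTopology.superset_covering _ ((Sieve.generate_le_iff _ _).2 ?_) (hcov T.unop)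
      rintro _ _ ⟨k⟩
      refine (hpiece T.unop k).1 ?_
      exact (NatTrans.naturality_apply c.hom _ x).trans
        ((congrArg (fun z => F.obj.map (ProEtLib.opHom T.unop (T.unop.hom ⁻¹ᵁ W k)).op z) hxy).trans
          (NatTrans.naturality_apply c.hom _ y).symm)
    · refine GrothendieckTopology.superset_covering _ ((Sieve.generate_le_iff _ _).2 ?_) (hcov T)
      rintro _ _ ⟨k⟩
      exact (hpiece T k).2 _
  exact ⟨R.obj F, ⟨asIso c⟩⟩

/-- constructible sheaves on the pro-etale site through strata -/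
theorem isConstructibleP_iff {X : Scheme.{u}} (F : EtModW.ModP Λ X) :
    (∃ E : EtModW.Mod Λ X, EtModW.IsConstructible Λ E ∧ Nonempty ((EtModW.epsPullMod Λ X).obj E ≅ F)) ↔
      ∀ U : X.Opens, IsAffineOpen U →
        ∃ (m : ℕ) (T : Fin m → Scheme.{u}) (g : ∀ i, T i ⟶ X),
          (∀ i, IsImmersion (g i)) ∧
          (∀ i, Topology.IsConstructible ((Subtype.val : ↥(U : Set X) → X) ⁻¹' Set.range (fun t => (g i).base t))) ∧
          Pairwise (fun i j => Disjoint (Set.range (fun t => (g i).base t)) (Set.range (fun t => (g j).base t))) ∧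
          (⋃ i, Set.range (fun t => (g i).base t)) = (U : Set X) ∧
          ∀ i, ∃ E : EtModW.Mod Λ (T i), EtModW.IsFTLocConst Λ E ∧
            Nonempty ((EtModW.epsPullMod Λ (T i)).obj E ≅ (pullPM Λ (g i)).obj F) := by
  refine ⟨?_, fun h => ?_⟩
  · rintro ⟨E, hE, ⟨e⟩⟩ U hU
    obtain ⟨m, T, g, hg, hc, hd, hu, hT⟩ := hE U hU
    exact ⟨m, T, g, hg, hc, hd, hu, fun i =>
      ⟨_, hT i, ⟨(pullEpsIso Λ (g i)).app E ≪≫ (pullPM Λ (g i)).mapIso e⟩⟩⟩
  have hcl : IsCl Λ F := by
    refine isCl_of_openCover F (fun U : {U : X.Opens // IsAffineOpen U} => U.1) (fun x => ?_) fun U => ?_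
    · obtain ⟨V, hV, hx, -⟩ := exists_isAffineOpen_mem_and_subset (U := (⊤ : X.Opens)) (x := x) trivial
      exact ⟨⟨V, hV⟩, hx⟩
    · obtain ⟨m, T, g, hg, hc, -, hu, hT⟩ := h U.1 U.2
      refine isCl_of_strata U.1 U.2 F T g hg hc hu fun i => ?_
      obtain ⟨E, -, hE⟩ := hT i
      exact ⟨E, hE⟩
  obtain ⟨E, ⟨e⟩⟩ := hcl
  refine ⟨E, fun U hU => ?_, ⟨e⟩⟩
  obtain ⟨m, T, g, hg, hc, hd, hu, hT⟩ := h U hU
  refine ⟨m, T, g, hg, hc, hd, hu, fun i => ?_⟩
  obtain ⟨E', hE', ⟨e'⟩⟩ := hT i
  exact isFTLocConst_of_iso ((EtModW.epsPullMod Λ (T i)).preimageIso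
    (e' ≪≫ ((pullPM Λ (g i)).mapIso e).symm ≪≫ ((pullEpsIso Λ (g i)).app E).symm)) hE'

end Groth.Agent.EtModWLib
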