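import Groth.Agent.EtModWLib.AdicP.Kernels
import Groth.Agent.EtModWLib.Constr
import Mathlib.Algebra.Homology.ShortComplex.SnakeLemma
import Mathlib.CategoryTheory.Abelian.ShortExact

/-! pro-etale sheaves coming from constructible etale sheaves -/

universe u

open CategoryTheory CategoryTheory.Limits AlgebraicGeometry Opposite

namespace Groth.Agent.EtModWLib

set_option backward.isDefEq.respectTransparency.types false

variable {Λ : Type (u + 1)} [CommRing Λ] {X : Scheme.{u}} [ProEtS.EpsCont X]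

/-- isomorphic to the pull-back of a constructible etale sheaf -/
def IsEC (F : EtModW.ModP Λ X) : Prop :=
  ∃ E : EtModW.Mod Λ X, EtModW.IsConstructible Λ E ∧ Nonempty ((EtModW.epsPullMod Λ X).obj E ≅ F)

theorem IsEC.of_iso {F F' : EtModW.ModP Λ X} (h : IsEC F) (e : F ≅ F') : IsEC F' := by
  obtain ⟨E, hE, ⟨i⟩⟩ := h
  exact ⟨E, hE, ⟨i ≪≫ e⟩⟩

theorem IsEC.cokernel [IsNoetherianRing Λ] [IsLocallyNoetherian X] [CompactSpace X] {F G : EtModW.ModP Λ X}
    (hF : IsEC F) (hG : IsEC G) (f : F ⟶ G) : IsEC (cokernel f) := by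
  obtain ⟨A, hA, ⟨a⟩⟩ := hF
  obtain ⟨B, hB, ⟨b⟩⟩ := hG
  obtain ⟨f', hf⟩ := (EtModW.epsPullMod Λ X).map_surjective (a.hom ≫ f ≫ b.inv)
  exact ⟨_, isConstructible_of_epi_noeth hB (cokernel.π f'),
    ⟨PreservesCokernel.iso (EtModW.epsPullMod Λ X) f' ≪≫ cokernel.mapIso _ _ a b (by simp [hf])⟩⟩

theorem IsEC.extension [IsNoetherianRing Λ] [IsLocallyNoetherian X] {S : ShortComplex (EtModW.ModP Λ X)}
    (hS : S.ShortExact) (h1 : IsEC S.X₁) (h3 : IsEC S.X₃) : IsEC S.X₂ := by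
  obtain ⟨A, hA, ⟨a⟩⟩ := h1
  obtain ⟨B, hB, ⟨b⟩⟩ := h3
  obtain ⟨E, ⟨e⟩⟩ := essImage_epsPullMod_extension hS ⟨A, ⟨a⟩⟩ ⟨B, ⟨b⟩⟩
  obtain ⟨f, hf⟩ := (EtModW.epsPullMod Λ X).map_surjective (a.hom ≫ S.f ≫ e.inv)
  obtain ⟨g, hg⟩ := (EtModW.epsPullMod Λ X).map_surjective (e.hom ≫ S.g ≫ b.inv)
  have hfg : f ≫ g = 0 := (EtModW.epsPullMod Λ X).map_injective (by
    rw [Functor.map_comp, hf, hg, Functor.map_zero]
    simp [S.zero_assoc])
  let T : ShortComplex (EtModW.Mod Λ X) := ShortComplex.mk f g hfg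
  have i : T.map (EtModW.epsPullMod Λ X) ≅ S := ShortComplex.isoMk a e b (by
      show a.hom ≫ S.f = (EtModW.epsPullMod Λ X).map f ≫ e.hom
      rw [hf]; simp) (by
      show e.hom ≫ S.g = (EtModW.epsPullMod Λ X).map g ≫ b.hom
      rw [hg]; simp)
  have hT : T.ShortExact :=
    CategoryTheory.ShortExact.reflects_shortExact_of_faithful _ (ShortComplex.shortExact_of_iso i.symm hS)
  exact ⟨E, isConstructible_of_extension hT hA hB, ⟨e⟩⟩

/-- the middle of an exact sequence of cokernels of an endomorphism of a short exact sequence -/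
theorem IsEC.cokernel_middle [IsNoetherianRing Λ] [IsLocallyNoetherian X] [CompactSpace X]
    {S : ShortComplex (EtModW.ModP Λ X)} (hS : S.ShortExact) (φ : S ⟶ S)
    (h0 : IsEC (kernel φ.τ₃)) (h1 : IsEC (Limits.cokernel φ.τ₁)) (h3 : IsEC (Limits.cokernel φ.τ₃)) :
    IsEC (Limits.cokernel φ.τ₂) := by
  have := hS.mono_f
  have := hS.epi_g
  let D : ShortComplex.SnakeInput (EtModW.ModP Λ X) :=
    { L₀ := kernel φ, L₁ := S, L₂ := S, L₃ := Limits.cokernel φ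
      v₀₁ := kernel.ι φ, v₁₂ := φ, v₂₃ := cokernel.π φ
      h₀ := kernelIsKernel φ, h₃ := cokernelIsCokernel φ
      L₁_exact := hS.exact, L₂_exact := hS.exact
      epi_L₁_g := hS.epi_g, mono_L₂_f := hS.mono_f }
  have h0' : IsEC D.L₀.X₃ := h0.of_iso (PreservesKernel.iso ShortComplex.π₃ φ).symm
  have h1' : IsEC D.L₃.X₁ := h1.of_iso (PreservesCokernel.iso ShortComplex.π₁ φ).symm
  have h3' : IsEC D.L₃.X₃ := h3.of_iso (PreservesCokernel.iso ShortComplex.π₃ φ).symm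
  have h2' : D.δ ≫ D.L₃.f = 0 := D.L₂'.zero
  let d : Limits.cokernel D.δ ⟶ D.L₃.X₂ := cokernel.desc D.δ D.L₃.f h2'
  have hd : cokernel.π D.δ ≫ d = D.L₃.f := cokernel.π_desc _ _ _
  have : Mono d := Preadditive.mono_of_cancel_zero d fun {P} x hx => by
    obtain ⟨P', π, hπ, y, hy⟩ := surjective_up_to_refinements_of_epi (cokernel.π D.δ) x
    have hy0 : y ≫ D.L₃.f = 0 := by rw [← hd, ← reassoc_of% hy, hx, comp_zero]
    obtain ⟨P'', π', hπ', z, hz⟩ := D.L₂'_exact.exact_up_to_refinements y hy0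
    refine (cancel_epi (π' ≫ π)).1 ?_
    rw [comp_zero, Category.assoc, hy, ← Category.assoc]
    exact (congrArg (· ≫ cokernel.π D.δ) hz).trans ((Category.assoc z D.δ (cokernel.π D.δ)).trans
      ((congrArg (z ≫ ·) (cokernel.condition D.δ)).trans comp_zero))
  have hdg : d ≫ D.L₃.g = 0 := by
    rw [← cancel_epi (cokernel.π D.δ), reassoc_of% hd, comp_zero]
    exact D.L₃.zero
  have : Epi D.L₃.g := by
    exact @ShortComplex.SnakeInput.epi_L₃_g _ _ _ D hS.epi_g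
  have hT : (ShortComplex.mk d D.L₃.g hdg).ShortExact :=
    { exact := (ShortComplex.exact_iff_of_epi_of_isIso_of_mono (S₁ := D.L₃)
        (S₂ := ShortComplex.mk d D.L₃.g hdg)
        { τ₁ := cokernel.π D.δ, τ₂ := 𝟙 _, τ₃ := 𝟙 _,
          comm₁₂ := hd.trans (Category.comp_id _).symm }).1 D.L₃_exact }
  exact (IsEC.extension hT (IsEC.cokernel h0' h1' D.δ) h3').of_iso (PreservesCokernel.iso ShortComplex.π₂ φ)

/-- adic pro-etale sheaves killed by a power of the ideal come from constructible etale sheaves -/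
theorem IsAdicP.isEC_of_killed {I : Ideal Λ} {F : EtModW.ModP Λ X} (hF : IsAdicP I F) (n : ℕ)
    (hk : ARSys.KilledBy (I ^ (n + 1)) F) : IsEC F := by
  obtain ⟨Q, p, hQ, hc, -⟩ := hF
  obtain ⟨E, hE, ⟨e⟩⟩ := hc n
  obtain ⟨ψ, hψ, -⟩ := (hQ n).2 F (𝟙 _) hk
  have h' : ψ ≫ p.app (op n) = 𝟙 (Q.obj (op n)) := by
    obtain ⟨χ, -, hu⟩ := (hQ n).2 (Q.obj (op n)) (p.app (op n)) (fun a ha => by
      rw [← Category.comp_id (p.app (op n)), ← Linear.comp_smul]
      exact (congrArg (p.app (op n) ≫ ·) ((hQ n).1 a ha)).trans comp_zero)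
    refine (hu _ ?_).trans (hu _ (Category.comp_id _)).symm
    exact (Category.assoc _ _ _).symm.trans ((congrArg (· ≫ p.app (op n)) hψ).trans (Category.id_comp _))
  exact ⟨E, hE, ⟨e ≪≫ ⟨ψ, p.app (op n), h', hψ⟩⟩⟩

end Groth.Agent.EtModWLib
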