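import Groth.Agent.EtModWLib.AdicP.LimMap
import Groth.Agent.EtModWLib.Uniform.ProEt

/-! adic pro-etale sheaves are the limits of adic systems of etale sheaves -/

universe u

open CategoryTheory CategoryTheory.Limits AlgebraicGeometry Opposite

namespace Groth.Agent.EtModWLib

set_option backward.isDefEq.respectTransparency.types false

variable {Λ : Type (u + 1)} [CommRing Λ] {X : Scheme.{u}} [ProEtS.EpsCont X] {I : Ideal Λ}

/-- an adic pro-etale sheaf: the limit of its constructible quotients by powers of the ideal -/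
def IsAdicP (I : Ideal Λ) (F : EtModW.ModP Λ X) : Prop :=
  ∃ (Q : ℕᵒᵖ ⥤ EtModW.ModP Λ X) (p : (Functor.const ℕᵒᵖ).obj F ⟶ Q),
    (∀ n : ℕ, ARSys.IsQuot (I ^ (n + 1)) (p.app (op n))) ∧
    (∀ n : ℕ, ∃ E : EtModW.Mod Λ X, EtModW.IsConstructible Λ E ∧
      Nonempty ((EtModW.epsPullMod Λ X).obj E ≅ Q.obj (op n))) ∧
    IsIso (limit.lift Q (Cone.mk F p))

/-- the adic system of an adic pro-etale sheaf -/
theorem IsAdicP.exists_system {F : EtModW.ModP Λ X} (h : IsAdicP I F) :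
    ∃ G : ARSys.PS (EtModW.Mod Λ X), ARSys.IsAdic I G ∧ (∀ n : ℕ, EtModW.IsConstructible Λ (G.obj (op n))) ∧
      Nonempty (limit (G ⋙ EtModW.epsPullMod Λ X) ≅ F) := by
  obtain ⟨Q, p, hQ, hc, hlim⟩ := h
  obtain ⟨G, hG, hGc, ⟨e⟩⟩ := exists_adic_of_quot I F Q p hQ hc
  exact ⟨G, hG, hGc, ⟨HasLimit.isoOfNatIso e ≪≫ (asIso (limit.lift Q (Cone.mk F p))).symm⟩⟩

/-- limits of adic systems of constructible sheaves are adic pro-etale sheaves -/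
theorem isAdicP_of_system (hI : I.FG) {G : ARSys.PS (EtModW.Mod Λ X)} (hG : ARSys.IsAdic I G)
    (hc : ∀ n : ℕ, EtModW.IsConstructible Λ (G.obj (op n))) {F : EtModW.ModP Λ X}
    (e : limit (G ⋙ EtModW.epsPullMod Λ X) ≅ F) : IsAdicP I F := by
  let p : (Functor.const ℕᵒᵖ).obj F ⟶ G ⋙ EtModW.epsPullMod Λ X :=
    (Functor.const ℕᵒᵖ).map e.inv ≫ (limit.cone (G ⋙ EtModW.epsPullMod Λ X)).π
  refine ⟨G ⋙ EtModW.epsPullMod Λ X, p, fun n => ?_, fun n => ⟨_, hc n, ⟨Iso.refl _⟩⟩, ?_⟩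
  · obtain ⟨hk, hu⟩ := isQuot_limit_π hI hG n
    refine ⟨hk, fun Y φ hφ => ?_⟩
    obtain ⟨ψ, hψ, hψ'⟩ := hu Y (e.hom ≫ φ) (ARLib.killed_comp_left hφ _)
    refine ⟨ψ, ?_, fun χ hχ => hψ' χ ?_⟩
    · show (e.inv ≫ limit.π _ _) ≫ ψ = φ
      rw [Category.assoc, hψ, Iso.inv_hom_id_assoc]
    · rw [← hχ]
      show _ = e.hom ≫ (e.inv ≫ limit.π _ _) ≫ χ
      rw [Category.assoc, Iso.hom_inv_id_assoc]
  · have : limit.lift (G ⋙ EtModW.epsPullMod Λ X) (Cone.mk F p) = e.inv :=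
      limit.hom_ext fun n => limit.lift_π _ _
    rw [this]
    infer_instance

theorem isAdicP_iff (hI : I.FG) {F : EtModW.ModP Λ X} :
    IsAdicP I F ↔ ∃ G : ARSys.PS (EtModW.Mod Λ X), ARSys.IsAdic I G ∧
      (∀ n : ℕ, EtModW.IsConstructible Λ (G.obj (op n))) ∧ Nonempty (limit (G ⋙ EtModW.epsPullMod Λ X) ≅ F) :=
  ⟨IsAdicP.exists_system, fun ⟨_, hG, hc, ⟨e⟩⟩ => isAdicP_of_system hI hG hc e⟩

end Groth.Agent.EtModWLib
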