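import Groth.Agent.EtModWLib.AdicP.AbPull
import Groth.Agent.EtModWLib.AdicP.Equiv
import Groth.Agent.ProEtPush13.ExtLimits
import Mathlib.CategoryTheory.Adjunction.Triple

/-! extension by zero of adic pro-etale sheaves -/

universe u

open CategoryTheory CategoryTheory.Limits AlgebraicGeometry Opposite

namespace Groth.Agent.EtModWLib

set_option backward.isDefEq.respectTransparency.types false

variable (Λ : Type (u + 1)) [CommRing Λ] {U X : Scheme.{u}} (j : U ⟶ X) [WeaklyEtale j] [ProEtS.JPCont j]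

/-- extension by zero on the pro-etale sites -/
noncomputable abbrev extPM : EtModW.ModP Λ U ⥤ EtModW.ModP Λ X :=
  (ProEtS.compP j).sheafPullback (ModuleCat.{u + 1} Λ) (Scheme.ProEt.topology U) (Scheme.ProEt.topology X)

/-- restriction on the pro-etale sites -/
noncomputable abbrev restrPM : EtModW.ModP Λ X ⥤ EtModW.ModP Λ U :=
  (ProEtS.compP j).sheafPushforwardContinuous (ModuleCat.{u + 1} Λ) (Scheme.ProEt.topology U) (Scheme.ProEt.topology X)

/-- extension by zero is left adjoint to restriction -/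
noncomputable abbrev extAdjPM : extPM Λ j ⊣ restrPM Λ j :=
  (ProEtS.compP j).sheafAdjunctionContinuous _ _ _

instance restrPM_additive : (restrPM Λ j).Additive where

instance restrPM_linear : (restrPM Λ j).Linear Λ where

instance extPM_additive : (extPM Λ j).Additive := (extAdjPM Λ j).left_adjoint_additive

instance extPM_linear : (extPM Λ j).Linear Λ := linear_of_adjunction (extAdjPM Λ j)

variable {Λ j}

/-- left adjoints preserve quotient maps modulo an ideal -/
theorem isQuot_extPM {J : Ideal Λ} {F Q : EtModW.ModP Λ U} {p : F ⟶ Q} (hp : ARSys.IsQuot J p) :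
    ARSys.IsQuot J ((extPM Λ j).map p) := by
  refine ⟨fun a ha => ?_, fun Y φ hφ => ?_⟩
  · rw [← CategoryTheory.Functor.map_id, ← Functor.map_smul, hp.1 a ha, Functor.map_zero]
  obtain ⟨ψ, hψ, hu⟩ := hp.2 _ ((extAdjPM Λ j).homEquiv _ _ φ) fun a ha => by
    rw [Adjunction.homEquiv_unit, ← Linear.comp_smul, ← Functor.map_smul, hφ a ha, Functor.map_zero, comp_zero]
  refine ⟨((extAdjPM Λ j).homEquiv _ _).symm ψ, ?_, fun χ hχ => ?_⟩
  · refine ((extAdjPM Λ j).homEquiv_naturality_left_symm p ψ).symm.trans ?_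
    rw [hψ, Equiv.symm_apply_apply]
  · rw [← hu ((extAdjPM Λ j).homEquiv _ _ χ) (((extAdjPM Λ j).homEquiv_naturality_left p χ).symm.trans
      (congrArg ((extAdjPM Λ j).homEquiv F Y) hχ)), Equiv.symm_apply_apply]

variable [IsOpenImmersion j]

/-- restriction after extension by zero is the identity -/
theorem isIso_unit_extPM (A : EtModW.ModP Λ U) : IsIso ((extAdjPM Λ j).unit.app A) := by
  haveI : ProEtS.PCont j := ProEtLib.pCont j
  let adj : ProEtS.compP j ⊣ ProEtS.bcP j :=
    MorphismProperty.Over.mapPullbackAdj (@WeaklyEtale) ⊤ j inferInstance trivial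
  haveI : (ProEtS.compP j).Faithful := ⟨fun {V W a b} h =>
    MorphismProperty.Over.Hom.ext (congrArg (fun q => q.left) h :)⟩
  haveI : (ProEtS.compP j).Full := ⟨fun {V W} a => ⟨MorphismProperty.Over.homMk a.left (by
    rw [← cancel_mono j, Category.assoc]
    exact MorphismProperty.Over.w a), rfl⟩⟩
  haveI : IsIso adj.unit := inferInstance
  let adjP : restrPM Λ j ⊣ (ProEtS.bcP j).sheafPushforwardContinuous (ModuleCat.{u + 1} Λ)
      (Scheme.ProEt.topology X) (Scheme.ProEt.topology U) :=
    adj.sheafPushforwardContinuous (E := ModuleCat.{u + 1} Λ) (Scheme.ProEt.topology U) (Scheme.ProEt.topology X)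
  haveI : ∀ G, IsIso (adjP.counit.app G) := fun G => by
    haveI : IsIso ((sheafToPresheaf _ _).map (adjP.counit.app G)) := by
      change IsIso ((adj.op.whiskerLeft (ModuleCat.{u + 1} Λ)).counit.app G.obj)
      refine @NatIso.isIso_of_isIso_app _ _ _ _ _ _ _ fun T => ?_
      simp only [Adjunction.whiskerLeft_counit_app_app]
      infer_instance
    exact isIso_of_fully_faithful (sheafToPresheaf _ _) _
  haveI : IsIso adjP.counit := NatIso.isIso_of_isIso_app _
  let T : Adjunction.Triple (extPM Λ j) (restrPM Λ j) _ := ⟨extAdjPM Λ j, adjP⟩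
  let hff := T.fullyFaithfulEquiv.symm adjP.fullyFaithfulROfIsIsoCounit
  haveI := hff.full
  haveI := hff.faithful
  infer_instance

variable [QuasiCompact j]

/-- the underlying abelian sheaf of an extension by zero vanishes on the closed complement -/
theorem isZero_pull_ab_extPM {Z : Scheme.{u}} {i : Z ⟶ X} [ProEtS.PCont i]
    (hc : Set.range j.base = (Set.range i.base)ᶜ) (A : EtModW.ModP Λ U) :
    IsZero ((ProEtS.pullP i).obj ((abPro Λ X).obj ((extPM Λ j).obj A))) :=
  (ProEtPush13.isZero_pull_extZero hc ((abPro Λ U).obj A)).of_iso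
    ((ProEtS.pullP i).mapIso ((abPullIso Λ (ProEtS.compP j)).app A))

/-- extension by zero commutes with sequential limits -/
theorem isIso_extPM_lift (Q : ℕᵒᵖ ⥤ EtModW.ModP Λ U) (c : Cone Q) [IsIso (limit.lift Q c)] :
    IsIso (limit.lift (Q ⋙ extPM Λ j) ((extPM Λ j).mapCone c)) := by
  let E := extPM Λ j
  let R := restrPM Λ j
  let l := limit.lift (Q ⋙ E) (E.mapCone c)
  let Zc : TopologicalSpace.Closeds X := ⟨(Set.range j.base)ᶜ, (j.opensRange.2).isClosed_compl⟩
  let ι := (Scheme.IdealSheafData.vanishingIdeal Zc).subschemeι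
  have hc : Set.range j.base = (Set.range ι.base)ᶜ := by
    rw [Scheme.IdealSheafData.range_subschemeι, Scheme.IdealSheafData.coe_support_vanishingIdeal]
    exact (compl_compl _).symm
  haveI : ProEtS.PCont ι := ProEtLib.pCont ι
  -- on the open part
  haveI : R.IsRightAdjoint := (extAdjPM Λ j).isRightAdjoint
  haveI : IsIso (extAdjPM Λ j).unit :=
    haveI := fun A => isIso_unit_extPM (Λ := Λ) (j := j) A
    NatIso.isIso_of_isIso_app _
  let η : Q ≅ (Q ⋙ E) ⋙ R := Functor.isoWhiskerLeft Q (asIso (extAdjPM Λ j).unit)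
  haveI : IsIso (R.map l) := by
    have h : (extAdjPM Λ j).unit.app c.pt ≫ R.map l ≫ (preservesLimitIso R (Q ⋙ E)).hom =
        limit.lift Q c ≫ (HasLimit.isoOfNatIso η).hom := limit.hom_ext fun n => by
      rw [Category.assoc, Category.assoc, preservesLimitIso_hom_π, ← Functor.map_comp, limit.lift_π,
        Category.assoc, HasLimit.isoOfNatIso_hom_π, limit.lift_π_assoc]
      exact ((extAdjPM Λ j).unit.naturality (c.π.app n)).symm
    haveI : IsIso ((extAdjPM Λ j).unit.app c.pt ≫ R.map l ≫ (preservesLimitIso R (Q ⋙ E)).hom) := by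
      rw [h]
      infer_instance
    haveI : IsIso (R.map l ≫ (preservesLimitIso R (Q ⋙ E)).hom) :=
      IsIso.of_isIso_comp_left ((extAdjPM Λ j).unit.app c.pt) _
    exact IsIso.of_isIso_comp_right (R.map l) (preservesLimitIso R (Q ⋙ E)).hom
  -- on the closed part
  haveI : PreservesLimitsOfShape ℕᵒᵖ (abPro Λ X) := by
    haveI : PreservesLimitsOfShape ℕᵒᵖ (abPro Λ X ⋙ sheafToPresheaf (Scheme.ProEt.topology X) AddCommGrpCat.{u + 1}) :=
      preservesLimitsOfShape_of_natIso (show sheafToPresheaf (Scheme.ProEt.topology X) (ModuleCat.{u + 1} Λ) ⋙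
        (Functor.whiskeringRight _ _ _).obj (forget₂ (ModuleCat.{u + 1} Λ) AddCommGrpCat.{u + 1}) ≅
        abPro Λ X ⋙ sheafToPresheaf (Scheme.ProEt.topology X) AddCommGrpCat.{u + 1} from Iso.refl _)
    exact preservesLimitsOfShape_of_reflects_of_preserves (abPro Λ X)
      (sheafToPresheaf (Scheme.ProEt.topology X) AddCommGrpCat.{u + 1})
  haveI : PreservesLimitsOfSize.{u, u} (ProEtS.pullP ι) :=
    ⟨fun {J} _ => ProEtPush13.pullP_preservesLimitsOfShape (i := ι) J⟩
  haveI : PreservesLimitsOfSize.{0, 0} (ProEtS.pullP ι) := preservesLimitsOfSize_shrink.{0, u, 0, u} _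
  let L := abPro Λ X ⋙ ProEtS.pullP ι
  have h0 : IsZero (L.obj (limit (Q ⋙ E))) := by
    refine IsZero.of_iso ?_ (preservesLimitIso L (Q ⋙ E))
    exact (IsZero.iff_id_eq_zero _).2 (limit.hom_ext fun n => (isZero_pull_ab_extPM hc (Q.obj n)).eq_of_tgt _ _)
  haveI : IsIso ((ProEtS.restrP j).map ((abPro Λ X).map l)) := inferInstanceAs (IsIso ((abPro Λ U).map (R.map l)))
  haveI : IsIso ((ProEtS.pullP ι).map ((abPro Λ X).map l)) :=
    (isZero_pull_ab_extPM hc c.pt).isIso h0 _
  haveI : IsIso ((abPro Λ X).map l) := ProEtPush13.isIso_of_parts hc _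
  exact isIso_of_reflects_iso l (abPro Λ X)

variable [hje : Etale j] [hmc : (MorphismProperty.Over.map (P := EtCoh.etaleMP.{u}) ⊤ (f := j) hje).IsContinuous
    U.smallEtaleTopology X.smallEtaleTopology]
  [hmr : ((MorphismProperty.Over.map (P := EtCoh.etaleMP.{u}) ⊤ (f := j) hje).sheafPushforwardContinuous
    (ModuleCat.{u + 1} Λ) U.smallEtaleTopology X.smallEtaleTopology).IsRightAdjoint]
  [ProEtS.EpsCont U] [ProEtS.EpsCont X]

omit hmc hmr hje in
variable (Λ j) in
/-- extension by zero commutes with the inclusion of the etale site -/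
noncomputable def extEpsIso (F : U.Etale ⥤ X.Etale) [hFc : F.IsContinuous U.smallEtaleTopology X.smallEtaleTopology]
    [hFr : (F.sheafPushforwardContinuous (ModuleCat.{u + 1} Λ) U.smallEtaleTopology X.smallEtaleTopology).IsRightAdjoint]
    (α : F ⋙ ProEtS.eps X ≅ ProEtS.eps U ⋙ ProEtS.compP j) :
    F.sheafPullback (ModuleCat.{u + 1} Λ) U.smallEtaleTopology X.smallEtaleTopology ⋙ EtModW.epsPullMod Λ X ≅
    EtModW.epsPullMod Λ U ⋙ extPM Λ j :=
  haveI := Functor.isContinuous_comp (ProEtS.eps U) (ProEtS.compP j) U.smallEtaleTopology (Scheme.ProEt.topology U)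
    (Scheme.ProEt.topology X)
  Adjunction.leftAdjointUniq
    (((F.sheafAdjunctionContinuous (ModuleCat.{u + 1} Λ) U.smallEtaleTopology X.smallEtaleTopology).comp
      (epsAdjMod (Λ := Λ) (X := X))).ofNatIsoRight
      (Functor.sheafPushforwardContinuousComp' (F := F) (G := ProEtS.eps X)
        (FG := ProEtS.eps U ⋙ ProEtS.compP j) α
        (ModuleCat.{u + 1} Λ) U.smallEtaleTopology X.smallEtaleTopology (Scheme.ProEt.topology X)))
    (((epsAdjMod (Λ := Λ) (X := U)).comp (extAdjPM Λ j)).ofNatIsoRight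
      (Functor.sheafPushforwardContinuousComp' (F := ProEtS.eps U) (G := ProEtS.compP j)
        (FG := ProEtS.eps U ⋙ ProEtS.compP j) (Iso.refl _)
        (ModuleCat.{u + 1} Λ) U.smallEtaleTopology (Scheme.ProEt.topology U) (Scheme.ProEt.topology X)))

/-- extensions by zero of adic sheaves are adic -/
theorem isAdicP_extPM {I : Ideal Λ}
    (hext : ∀ E : EtModW.Mod Λ U, EtModW.IsConstructible Λ E → EtModW.IsConstructible Λ
      (((MorphismProperty.Over.map (P := EtCoh.etaleMP.{u}) ⊤ (f := j) hje).sheafPullback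
        (ModuleCat.{u + 1} Λ) U.smallEtaleTopology X.smallEtaleTopology).obj E))
    {F : EtModW.ModP Λ U} (hF : IsAdicP I F) : IsAdicP I ((extPM Λ j).obj F) := by
  obtain ⟨Q, p, hQ, hc, hlim⟩ := hF
  let E := extPM Λ j
  let p' : (Functor.const ℕᵒᵖ).obj (E.obj F) ⟶ Q ⋙ E :=
    { app := fun n => E.map (p.app n)
      naturality := fun n m h => by
        show 𝟙 _ ≫ E.map (p.app m) = E.map (p.app n) ≫ E.map (Q.map h)
        rw [Category.id_comp, ← Functor.map_comp]
        exact congrArg (fun q => E.map q) ((Category.id_comp _).symm.trans (p.naturality h)) }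
  refine ⟨Q ⋙ E, p', fun n => isQuot_extPM (hQ n), fun n => ?_, ?_⟩
  · obtain ⟨E₀, hE, ⟨e⟩⟩ := hc n
    refine ⟨_, hext E₀ hE, ⟨(extEpsIso Λ j (hFc := hmc) (hFr := hmr) (MorphismProperty.Over.map (P := EtCoh.etaleMP.{u}) ⊤ (f := j) hje)
      (NatIso.ofComponents (fun V => MorphismProperty.Over.isoMk (Iso.refl _) (Category.id_comp _)) fun g => ?_)).app E₀
      ≪≫ E.mapIso e⟩⟩
    refine MorphismProperty.Over.Hom.ext ?_
    refine (Category.comp_id _).trans (Eq.trans ?_ (Category.id_comp _).symm)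
    rfl
  · exact isIso_extPM_lift Q (Cone.mk F p)

end Groth.Agent.EtModWLib
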