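import Groth.Agent.EtModWLib.AdicP.Equiv
import Groth.Agent.EtModWLib.Noeth.Systems
import Mathlib.CategoryTheory.Limits.Preserves.FunctorCategory

/-! kernels and cokernels of adic pro-etale sheaves -/

universe u

open CategoryTheory CategoryTheory.Limits AlgebraicGeometry Opposite

namespace Groth.Agent.EtModWLib

set_option backward.isDefEq.respectTransparency.types false

variable (Λ : Type (u + 1)) [CommRing Λ] (X : Scheme.{u}) [ProEtS.EpsCont X]

/-- the limit on the pro-etale site of a system of etale sheaves -/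
noncomputable abbrev limEps : ARSys.PS (EtModW.Mod Λ X) ⥤ EtModW.ModP Λ X :=
  (Functor.whiskeringRight ℕᵒᵖ (EtModW.Mod Λ X) (EtModW.ModP Λ X)).obj (EtModW.epsPullMod Λ X) ⋙ lim

instance additive_limEps : (limEps Λ X).Additive where
  map_add {F G f g} := limit.hom_ext fun n => by
    show limMap (Functor.whiskerRight (f + g) _) ≫ limit.π _ n =
      (limMap (Functor.whiskerRight f _) + limMap (Functor.whiskerRight g _)) ≫ limit.π _ n
    rw [Preadditive.add_comp, limMap_π, limMap_π, limMap_π, Functor.whiskerRight_app, Functor.whiskerRight_app,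
      Functor.whiskerRight_app, NatTrans.app_add, Functor.map_add, Preadditive.comp_add]

instance preservesFiniteLimits_limEps : PreservesFiniteLimits (limEps Λ X) := by
  have : PreservesFiniteLimits ((Functor.whiskeringRight ℕᵒᵖ (EtModW.Mod Λ X) (EtModW.ModP Λ X)).obj
      (EtModW.epsPullMod Λ X)) := ⟨fun J _ _ => inferInstance⟩
  have : PreservesFiniteLimits (lim : (ℕᵒᵖ ⥤ EtModW.ModP Λ X) ⥤ EtModW.ModP Λ X) :=
    ⟨fun J _ _ => inferInstance⟩
  exact comp_preservesFiniteLimits _ _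

variable {Λ X} {I : Ideal Λ}

/-- isomorphisms up to translation become isomorphisms in the limit -/
theorem isIso_limEps {Y K : ARSys.PS (EtModW.Mod Λ X)} (v : Y ⟶ K) (hv : ARSys.IsARIso v) :
    IsIso ((limEps Λ X).map v) :=
  ARLib.isIso_limMap (Y ⋙ EtModW.epsPullMod Λ X) (Functor.whiskerRight v (EtModW.epsPullMod Λ X))
    (isARIso_map (EtModW.epsPullMod Λ X) v hv)

theorem isAdicP_of_arAdicC (hI : I.FG) {K : ARSys.PS (EtModW.Mod Λ X)} (hK : IsARAdicC I K) {F : EtModW.ModP Λ X}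
    (e : (limEps Λ X).obj K ≅ F) : IsAdicP I F := by
  obtain ⟨-, Y, v, hY, hYc, hv⟩ := hK
  have := isIso_limEps v hv
  exact isAdicP_of_system hI hY hYc (asIso ((limEps Λ X).map v) ≪≫ e)

theorem isAdicP_of_iso (hI : I.FG) {F F' : EtModW.ModP Λ X} (h : IsAdicP I F) (e : F ≅ F') : IsAdicP I F' := by
  obtain ⟨G, hG, hc, ⟨i⟩⟩ := h.exists_system
  exact isAdicP_of_system hI hG hc (i ≪≫ e)

/-- maps between limits of adic systems come from maps of systems -/
theorem exists_limEps_map (hI : I.FG) {A B : ARSys.PS (EtModW.Mod Λ X)} (hA : ARSys.IsAdic I A)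
    (hB : ARSys.IsAdic I B) (φ : (limEps Λ X).obj A ⟶ (limEps Λ X).obj B) : ∃ f : A ⟶ B, (limEps Λ X).map f = φ := by
  obtain ⟨f, hf⟩ := (full_faithful_limit (Λ := Λ) (X := X) hI).1.map_surjective
    (X := ⟨A, hA⟩) (Y := ⟨B, hB⟩) φ
  exact ⟨f.hom, hf⟩

theorem limEps_map_injective (hI : I.FG) {A B : ARSys.PS (EtModW.Mod Λ X)} (hA : ARSys.IsAdic I A)
    (hB : ARSys.IsAdic I B) {f g : A ⟶ B} (h : (limEps Λ X).map f = (limEps Λ X).map g) : f = g :=
  congrArg (fun q => q.hom) ((full_faithful_limit (Λ := Λ) (X := X) hI).2.map_injective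
    (X := ⟨A, hA⟩) (Y := ⟨B, hB⟩) (a₁ := ⟨f⟩) (a₂ := ⟨g⟩) h)

variable [IsNoetherianRing Λ] [IsLocallyNoetherian X] [CompactSpace X]

theorem isAdicP_kernel_cokernel {F G : EtModW.ModP Λ X} (hF : IsAdicP I F) (hG : IsAdicP I G) (w : F ⟶ G) :
    IsAdicP I (kernel w) ∧ IsAdicP I (cokernel w) := by
  have hI : I.FG := IsNoetherian.noetherian I
  obtain ⟨A, hA, hAc, ⟨a⟩⟩ := hF.exists_system
  obtain ⟨B, hB, hBc, ⟨b⟩⟩ := hG.exists_system
  obtain ⟨g, hg⟩ := exists_limEps_map hI hA hB (a.hom ≫ w ≫ b.inv)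
  obtain ⟨hKn, hCn⟩ := ARLib.isARAdicNoeth_kernel_cokernel g (isARAdicNoeth_of hA hAc) (isARAdicNoeth_of hB hBc)
  obtain ⟨hK, hC⟩ := isARAdicC_kernel_cokernel hA hB hAc hBc g
  let Φ := limEps Λ X
  have sq : Φ.map g ≫ b.hom = a.hom ≫ w := by rw [hg, Category.assoc, Category.assoc, Iso.inv_hom_id, Category.comp_id]
  -- the image sequences
  let i := Abelian.image.ι g
  let e := Abelian.factorThruImage g
  have he : e ≫ i = g := Abelian.image.fac g
  have hi : (ShortComplex.mk i (cokernel.π g) (kernel.condition (cokernel.π g))).ShortExact :=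
    { exact := ShortComplex.exact_of_f_is_kernel _ (kernelIsKernel (cokernel.π g)) }
  have hk0 : kernel.ι g ≫ e = 0 := by
    rw [← cancel_mono i, zero_comp, Category.assoc]
    exact (congrArg (_ ≫ ·) he).trans (kernel.condition g)
  have hs : (ShortComplex.mk (kernel.ι g) e hk0).ShortExact := by
    refine { exact := ?_ }
    exact (ShortComplex.exact_iff_of_epi_of_isIso_of_mono (S₁ := ShortComplex.mk (kernel.ι g) e hk0)
      (S₂ := ShortComplex.mk (kernel.ι g) g (kernel.condition g))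
      { τ₁ := 𝟙 _, τ₂ := 𝟙 _, τ₃ := i,
        comm₂₃ := (Category.id_comp _).trans he.symm }).2
      (ShortComplex.exact_of_f_is_kernel _ (kernelIsKernel g))
  have hIm : ARSys.IsARAdic I (Abelian.image g) :=
    (ARLib.isARAdicNoeth_X₁ hi (isARAdicNoeth_of hB hBc) hCn.1).1
  have hepi_e : Epi (Φ.map e) := by
    obtain ⟨-, Y, v, hY, hv⟩ := hKn.1
    exact epi_limMap_eps _ hs ⟨Y, v, hY, hv⟩
  have hepi_π : Epi (Φ.map (cokernel.π g)) := by
    obtain ⟨-, Y, v, hY, hv⟩ := hIm
    exact epi_limMap_eps _ hi ⟨Y, v, hY, hv⟩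
  constructor
  · exact isAdicP_of_arAdicC hI hK (PreservesKernel.iso Φ g ≪≫ kernel.mapIso _ _ a b sq)
  · have h0 : Φ.map g ≫ Φ.map (cokernel.π g) = 0 := by rw [← Φ.map_comp, cokernel.condition, Φ.map_zero]
    have hex : (ShortComplex.mk (Φ.map g) (Φ.map (cokernel.π g)) h0).Exact := by
      refine (ShortComplex.exact_iff_of_epi_of_isIso_of_mono
        (S₁ := ShortComplex.mk (Φ.map g) (Φ.map (cokernel.π g)) h0)
        (S₂ := ShortComplex.mk (Φ.map i) (Φ.map (cokernel.π g))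
          (by rw [← Φ.map_comp, kernel.condition, Φ.map_zero]))
        { τ₁ := Φ.map e, τ₂ := 𝟙 _, τ₃ := 𝟙 _,
          comm₁₂ := by
            show Φ.map e ≫ Φ.map i = Φ.map g ≫ 𝟙 _
            rw [← Φ.map_comp, he, Category.comp_id] }).2 ?_
      exact ShortComplex.exact_of_f_is_kernel _ (KernelFork.mapIsLimit _ (kernelIsKernel (cokernel.π g)) Φ)
    exact isAdicP_of_arAdicC hI hC
      (IsColimit.coconePointUniqueUpToIso hex.gIsCokernel (cokernelIsCokernel (Φ.map g)) ≪≫
        cokernel.mapIso _ _ a b sq)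

end Groth.Agent.EtModWLib
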