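import Groth.Agent.EtModWLib.AdicP.Sections
import Groth.Agent.EtModWLib.Noeth.Detect

/-! surjectivity on limits under a Mittag-Leffler condition, and full faithfulness on adic systems -/

universe u

open CategoryTheory CategoryTheory.Limits AlgebraicGeometry Opposite

namespace Groth.Agent.EtModWLib

open ProEtDCLib (sec)

set_option backward.isDefEq.respectTransparency.types false

theorem exists_lift_limit {Λ : Type (u + 1)} [CommRing Λ] {B C : ARSys.PS (ModuleCat.{u + 1} Λ)} (g : B ⟶ C)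
    (hg : ∀ n : ℕ, Function.Surjective (g.app (op n))) (r : ℕ)
    (hA : ∀ (n : ℕ) (d : B.obj (op (n + r))), g.app (op (n + r)) d = 0 → ∃ d' : B.obj (op (n + 1 + r)),
      g.app (op (n + 1 + r)) d' = 0 ∧
        ARSys.tr B (show n ≤ n + 1 + r by omega) d' = ARSys.tr B (show n ≤ n + r by omega) d)
    (z : (limit C : ModuleCat.{u + 1} Λ)) :
    ∃ y : (limit B : ModuleCat.{u + 1} Λ), ∀ n, g.app (op n) (limit.π B (op n) y) = limit.π C (op n) z := by
  have hnat : ∀ {i j : ℕ} (h : i ≤ j) (x : B.obj (op j)),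
      g.app (op i) (ARSys.tr B h x) = ARSys.tr C h (g.app (op j) x) := fun h x => by
    rw [← ConcreteCategory.comp_apply, g.naturality, ConcreteCategory.comp_apply]
  let W : ∀ n, B.obj (op (n + r)) → Prop := fun n y => g.app (op (n + r)) y = limit.π C (op (n + r)) z
  have step : ∀ n (y : {y // W n y}), ∃ y' : {y' // W (n + 1) y'},
      ARSys.tr B (show n ≤ n + 1 + r by omega) y'.1 = ARSys.tr B (show n ≤ n + r by omega) y.1 := by
    rintro n ⟨y, hy⟩
    obtain ⟨y₁, hy₁⟩ := hg (n + 1 + r) (limit.π C (op (n + 1 + r)) z)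
    obtain ⟨d', hd', hd''⟩ := hA n (ARSys.tr B (show n + r ≤ n + 1 + r by omega) y₁ - y) (by
      rw [map_sub, hnat, hy₁, hy, π_tr_apply, sub_self])
    refine ⟨⟨y₁ - d', ?_⟩, ?_⟩
    · show g.app (op (n + 1 + r)) (y₁ - d') = _
      rw [map_sub, hd', sub_zero, hy₁]
    · show ARSys.tr B _ (y₁ - d') = _
      rw [map_sub, hd'', map_sub, tr_tr_apply, sub_sub_cancel]
  choose s hs using step
  obtain ⟨y₀, hy₀⟩ := hg (0 + r) (limit.π C (op (0 + r)) z)
  let Y : ∀ k, {y // W k y} := Nat.rec ⟨y₀, hy₀⟩ s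
  have hc : ∀ i k (h : i ≤ k), ARSys.tr B (show i ≤ k + r by omega) (Y k).1 =
      ARSys.tr B (show i ≤ i + r by omega) (Y i).1 := fun i k h => by
    induction k, h using Nat.le_induction with
    | base => rfl
    | succ k h ih =>
      rw [← tr_tr_apply B h (show k ≤ k + 1 + r by omega)]
      exact (congrArg _ (hs k (Y k))).trans ((tr_tr_apply B _ _ _).trans ih)
  obtain ⟨y, hy⟩ := exists_limit_elem B (fun k => ARSys.tr B (show k ≤ k + r by omega) (Y k).1) fun i k h => by
    rw [tr_tr_apply, hc i k h]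
  refine ⟨y, fun n => ?_⟩
  rw [hy n, hnat, (Y n).2, π_tr_apply]

variable {Λ : Type (u + 1)} [CommRing Λ] {X : Scheme.{u}} [ProEtS.EpsCont X] {I : Ideal Λ}

theorem epi_limMap_eps (S : ShortComplex (ARSys.PS (EtModW.Mod Λ X))) (hS : S.ShortExact)
    (hA : ∃ (Y : ARSys.PS (EtModW.Mod Λ X)) (v : Y ⟶ S.X₁), ARSys.IsAdic I Y ∧ ARSys.IsARIso v) :
    Epi (limMap (Functor.whiskerRight S.g (EtModW.epsPullMod Λ X))) := by
  obtain ⟨Y, v, hY, hv⟩ := hA
  obtain ⟨r, hr⟩ := exists_stab (ARLib.isMLAR_of_strict S.X₁ v (ARLib.isStrict_of_isAdic hY) hv)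
  refine ProEtDCLib.epi_of_wc _ fun V hV z => ?_
  let D₂ := S.X₂ ⋙ EtModW.epsPullMod Λ X
  let D₃ := S.X₃ ⋙ EtModW.epsPullMod Λ X
  have : PreservesFiniteColimits (sec Λ V) := sec_preservesFiniteColimits hV
  have : (sec Λ V).PreservesHomology := ProEtDCLib.preservesHomology_sec Λ hV
  let L := EtModW.epsPullMod Λ X ⋙ sec Λ V
  have hex : ∀ {T : ShortComplex (EtModW.Mod Λ X)}, T.Exact → (T.map L).Exact := fun hT =>
    (hT.map (EtModW.epsPullMod Λ X)).map (sec Λ V)
  obtain ⟨y, hy⟩ := exists_lift_limit (Functor.whiskerRight S.g L) (fun n => by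
      have := ARLib.epi_app hS n
      have h1 : Epi ((EtModW.epsPullMod Λ X).map (S.g.app (op n))) := inferInstance
      exact ProEtDCLib.sec_surjective Λ hV ((EtModW.epsPullMod Λ X).map (S.g.app (op n))))
    r (fun n d hd => by
      obtain ⟨c, hc⟩ := (ShortComplex.moduleCat_exact_iff _).1 (hex (ARLib.shortExact_app hS (n + r)).exact) d hd
      obtain ⟨c', hc'⟩ := (ShortComplex.moduleCat_exact_iff _).1
        (hex ((ShortComplex.mk _ _ (cokernel.condition (ARSys.tr S.X₁ (show n ≤ n + 1 + r by omega)))).exact_of_g_is_cokernel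
          (cokernelIsCokernel _))) (L.map (ARSys.tr S.X₁ (show n ≤ n + r by omega)) c) (by
          show L.map (cokernel.π _) (L.map _ c) = 0
          refine (ConcreteCategory.comp_apply _ _ c).symm.trans ?_
          refine (ConcreteCategory.congr_hom ((L.map_comp _ _).symm.trans ((congrArg L.map
            (hr n (n + r) (n + 1 + r) le_rfl (by omega) _ _)).trans (L.map_zero _ _))) c).trans ?_
          rfl)
      refine ⟨L.map (S.f.app (op (n + 1 + r))) c', ?_, ?_⟩
      · show L.map (S.g.app _) (L.map (S.f.app _) c') = 0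
        rw [← ConcreteCategory.comp_apply, ← Functor.map_comp, ARLib.comp_app_zero, Functor.map_zero]
        rfl
      · refine Eq.trans ?_ (congrArg (L.map (ARSys.tr S.X₂ (show n ≤ n + r by omega))) hc)
        show L.map (ARSys.tr S.X₂ _) (L.map (S.f.app _) c') = L.map (ARSys.tr S.X₂ _) (L.map (S.f.app _) c)
        rw [← ConcreteCategory.comp_apply, ← Functor.map_comp, ← ARLib.tr_naturality, Functor.map_comp,
          ConcreteCategory.comp_apply]
        refine (congrArg (L.map (S.f.app (op n))) hc').trans ?_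
        rw [← ConcreteCategory.comp_apply, ← Functor.map_comp, ARLib.tr_naturality, Functor.map_comp,
          ConcreteCategory.comp_apply])
    ((preservesLimitIso (sec Λ V) D₃).hom z)
  obtain ⟨w, hw⟩ := exists_sec_limit D₂ V y
  refine ⟨w, sec_limit_ext D₃ fun n => ?_⟩
  rw [← ConcreteCategory.comp_apply, ← Functor.map_comp, limMap_π, Functor.map_comp, ConcreteCategory.comp_apply, hw]
  exact (hy n.unop).trans (sec_limit_π D₃ V n z)

/-- maps between limits of adic systems come uniquely from maps of the systems -/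
theorem full_faithful_limit (hI : I.FG) :
    (ObjectProperty.ι (fun G : ARSys.PS (EtModW.Mod Λ X) => ARSys.IsAdic I G) ⋙
        ((Functor.whiskeringRight ℕᵒᵖ (EtModW.Mod Λ X) (EtModW.ModP Λ X)).obj (EtModW.epsPullMod Λ X) ⋙ lim)).Full ∧
    (ObjectProperty.ι (fun G : ARSys.PS (EtModW.Mod Λ X) => ARSys.IsAdic I G) ⋙
        ((Functor.whiskeringRight ℕᵒᵖ (EtModW.Mod Λ X) (EtModW.ModP Λ X)).obj (EtModW.epsPullMod Λ X) ⋙ lim)).Faithful := by
  let E := EtModW.epsPullMod Λ X
  refine ⟨⟨fun {A B} φ => ?_⟩, ⟨fun {A B f g} h => ?_⟩⟩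
  · have hk : ∀ n : ℕ, ARSys.KilledBy (I ^ (n + 1)) (E.obj (B.obj.obj (op n))) := fun n => killedBy_map E (B.2.1 n)
    choose ψ hψ hu using fun n : ℕ => (isQuot_limit_π hI A.2 n).2 _ (φ ≫ limit.π (B.obj ⋙ E) (op n))
      (ARLib.homKilledBy_of_tgt (hk n) _)
    choose ψ₀ hψ₀ using fun n : ℕ => E.map_surjective (ψ n)
    have hnat : ∀ i j (h : i ≤ j), ARSys.tr A.obj h ≫ ψ₀ i = ψ₀ j ≫ ARSys.tr B.obj h := fun i j h => by
      have := ARLib.IsQuot.epi (isQuot_limit_π hI A.2 j)
      refine E.map_injective ((cancel_epi (limit.π (A.obj ⋙ E) (op j))).1 ?_)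
      rw [Functor.map_comp, Functor.map_comp, hψ₀, hψ₀, reassoc_of% hψ j]
      refine (Category.assoc _ _ _).symm.trans ?_
      refine (congrArg (· ≫ ψ i) (limit.w (A.obj ⋙ E) (homOfLE h).op)).trans ((hψ i).trans ?_)
      exact (congrArg (φ ≫ ·) (limit.w (B.obj ⋙ E) (homOfLE h).op)).symm
    refine ⟨⟨ARLib.natMk ψ₀ hnat⟩, limit.hom_ext fun n => ?_⟩
    obtain ⟨n⟩ := n
    refine (limMap_π _ _).trans ?_
    show limit.π (A.obj ⋙ E) (op n) ≫ E.map ((ARLib.natMk ψ₀ hnat).app (op n)) = _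
    rw [ARLib.natMk_app, hψ₀]
    exact hψ n
  · refine ObjectProperty.hom_ext _ (ARLib.hom_ext fun n => E.map_injective ?_)
    have := ARLib.IsQuot.epi (isQuot_limit_π hI A.2 n)
    refine (cancel_epi (limit.π (A.obj ⋙ E) (op n))).1 ?_
    exact (limMap_π _ _).symm.trans ((congrArg (fun q => q ≫ limit.π (B.obj ⋙ E) (op n)) h).trans (limMap_π _ _))

end Groth.Agent.EtModWLib
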