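import Groth.Agent.EtModWLib.AdicP.EC
import Groth.Agent.EtModWLib.AdicP.Chains

/-! extensions of adic pro-etale sheaves for a principal ideal -/

universe u v

open CategoryTheory CategoryTheory.Limits AlgebraicGeometry Opposite

namespace Groth.Agent.EtModWLib

open ProEtDCLib (sec)

set_option backward.isDefEq.respectTransparency.types false

section Module

variable {A : Type*} [CommRing A] (a : A)

/-- complete and separated for the powers of an element, in terms of elements -/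
def AdicComplete (M : Type v) [AddCommGroup M] [Module A M] : Prop :=
  (∀ x : M, (∀ n : ℕ, ∃ m : M, a ^ (n + 1) • m = x) → x = 0) ∧
  (∀ x : ℕ → M, (∀ n : ℕ, ∃ m : M, a ^ (n + 1) • m = x (n + 1) - x n) →
    ∃ y : M, ∀ n : ℕ, ∃ m : M, a ^ (n + 1) • m = y - x n)

variable {a} {M₁ M₂ M₃ : Type v} [AddCommGroup M₁] [Module A M₁] [AddCommGroup M₂] [Module A M₂]
  [AddCommGroup M₃] [Module A M₃]

/-- completeness passes to extensions when the torsion of the quotient is bounded -/
theorem adicComplete_middle (f : M₁ →ₗ[A] M₂) (g : M₂ →ₗ[A] M₃) (hf : Function.Injective f)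
    (hg : Function.Surjective g) (hex : ∀ x, g x = 0 → ∃ y, f y = x) (hgf : ∀ y, g (f y) = 0) (c : ℕ)
    (hc : ∀ (k : ℕ) (m : M₃), a ^ k • m = 0 → a ^ c • m = 0) (h₁ : AdicComplete a M₁) (h₃ : AdicComplete a M₃) :
    AdicComplete a M₂ := by
  have key : ∀ (y : M₁) (n : ℕ) (m : M₂), a ^ (n + c + 1) • m = f y → ∃ z : M₁, a ^ (n + 1) • z = y := by
    intro y n m hm
    have h0 : a ^ c • g m = 0 := hc (n + c + 1) _ (by rw [← map_smul, hm, hgf])
    obtain ⟨z, hz⟩ := hex (a ^ c • m) (by rw [map_smul, h0])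
    refine ⟨z, hf ?_⟩
    rw [map_smul, hz, smul_smul, ← pow_add, show n + 1 + c = n + c + 1 by omega, hm]
  refine ⟨fun x hx => ?_, fun x hx => ?_⟩
  · have hgx : g x = 0 := h₃.1 _ fun n => by
      obtain ⟨m, hm⟩ := hx n
      exact ⟨g m, by rw [← map_smul, hm]⟩
    obtain ⟨y, rfl⟩ := hex x hgx
    have hy : y = 0 := h₁.1 y fun n => by
      obtain ⟨m, hm⟩ := hx (n + c)
      exact key y n m hm
    rw [hy, map_zero]
  · obtain ⟨z, hz⟩ := h₃.2 (fun n => g (x n)) fun n => by
      obtain ⟨m, hm⟩ := hx n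
      exact ⟨g m, by rw [← map_smul, hm, map_sub]⟩
    obtain ⟨w, rfl⟩ := hg z
    have hd : ∀ n, ∃ (t : M₁) (m : M₂), f t + a ^ (n + 1) • m = x n - w := fun n => by
      obtain ⟨m₃, hm₃⟩ := hz n
      obtain ⟨m, rfl⟩ := hg m₃
      obtain ⟨t, ht⟩ := hex (x n - w - a ^ (n + 1) • (-m)) (by
        rw [map_sub, map_sub, map_smul, map_neg, smul_neg, hm₃]
        abel)
      exact ⟨t, -m, by rw [ht]; abel⟩
    choose t m htm using hd
    obtain ⟨t', ht'⟩ := h₁.2 (fun n => t (n + c)) fun n => by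
      obtain ⟨d, hd⟩ := hx (n + c)
      refine key _ n (d - a • m (n + c + 1) + m (n + c)) ?_
      have e1 := htm (n + c)
      have e2 := htm (n + c + 1)
      rw [map_sub, show n + 1 + c = n + c + 1 by omega]
      rw [← sub_eq_iff_eq_add'.2 e1.symm, ← sub_eq_iff_eq_add'.2 e2.symm] at *
      rw [smul_add, smul_sub, hd, smul_smul, ← pow_succ]
      have e1' : f (t (n + c)) = x (n + c) - w - a ^ (n + c + 1) • m (n + c) := eq_sub_of_add_eq (htm _)
      have e2' : f (t (n + c + 1)) = x (n + c + 1) - w - a ^ (n + c + 1 + 1) • m (n + c + 1) :=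
        eq_sub_of_add_eq (htm _)
      rw [e1', e2']
      abel
    refine ⟨w + f t', fun n => ?_⟩
    obtain ⟨q, hq⟩ := ht' n
    obtain ⟨d, hd⟩ : ∃ d, a ^ (n + 1) • d = x (n + c) - x n := by
      have : ∀ k, ∃ d, a ^ (n + 1) • d = x (n + k) - x n := fun k => by
        induction k with
        | zero => exact ⟨0, by simp⟩
        | succ k ih =>
          obtain ⟨d, hd⟩ := ih
          obtain ⟨e, he⟩ := hx (n + k)
          exact ⟨d + a ^ k • e, by
            rw [smul_add, smul_smul, ← pow_add, show n + 1 + k = n + k + 1 by omega, hd, he,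
              ← add_assoc n k 1]
            abel⟩
      exact this c
    refine ⟨f q + d - a ^ c • m (n + c), ?_⟩
    have e1' : f (t (n + c)) = x (n + c) - w - a ^ (n + c + 1) • m (n + c) := eq_sub_of_add_eq (htm _)
    rw [smul_sub, smul_add, ← map_smul, hq, map_sub, hd, smul_smul, ← pow_add,
      show n + 1 + c = n + c + 1 by omega, e1']
    abel

end Module

variable {Λ : Type (u + 1)} [CommRing Λ] {X : Scheme.{u}} [ProEtS.EpsCont X] {a : Λ}

omit [ProEtS.EpsCont X] in
theorem sec_smul_id (V : X.ProEt) (F : EtModW.ModP Λ X) (b : Λ) (x : (sec Λ V).obj F) :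
    (sec Λ V).map (b • 𝟙 F) x = b • x := by
  rw [Functor.map_smul, CategoryTheory.Functor.map_id]
  rfl

omit [ProEtS.EpsCont X] in
theorem exact_sec {V : X.ProEt} (hV : ProEtS.IsWC V) {S : ShortComplex (EtModW.ModP Λ X)} (hS : S.Exact)
    (x : (sec Λ V).obj S.X₂) (hx : (sec Λ V).map S.g x = 0) : ∃ y, (sec Λ V).map S.f y = x :=
  have := ProEtDCLib.preservesHomology_sec Λ hV
  (ShortComplex.moduleCat_exact_iff _).1 (hS.map (sec Λ V)) x hx

omit [ProEtS.EpsCont X] in
theorem mem_span_pow {n : ℕ} {b : Λ} (hb : b ∈ Ideal.span {a} ^ (n + 1)) : ∃ r, r * a ^ (n + 1) = b := by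
  rw [Ideal.span_singleton_pow] at hb
  exact Ideal.mem_span_singleton'.1 hb

omit [ProEtS.EpsCont X] in
theorem sec_isQuot {F Q : EtModW.ModP Λ X} {n : ℕ} {p : F ⟶ Q} (hp : ARSys.IsQuot (Ideal.span {a} ^ (n + 1)) p)
    {V : X.ProEt} (hV : ProEtS.IsWC V) :
    Function.Surjective ((sec Λ V).map p) ∧
      ∀ x, (sec Λ V).map p x = 0 ↔ ∃ m, a ^ (n + 1) • m = x := by
  have hk : ARSys.HomKilledBy (Ideal.span {a} ^ (n + 1)) p := fun b hb => by
    rw [← Category.comp_id p, ← Linear.comp_smul]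
    exact (congrArg (p ≫ ·) (hp.1 b hb)).trans comp_zero
  have : Epi p := ⟨fun {Z} α β h => by
    obtain ⟨χ, -, hu⟩ := hp.2 Z (p ≫ α) (fun b hb => by
      rw [← Linear.smul_comp]
      exact (congrArg (· ≫ α) (hk b hb)).trans zero_comp)
    exact (hu α rfl).trans (hu β h.symm).symm⟩
  refine ⟨ProEtDCLib.sec_surjective Λ hV p, fun x => ⟨fun hx => ?_, ?_⟩⟩
  · obtain ⟨ψ, hψ, -⟩ := hp.2 _ (cokernel.π (a ^ (n + 1) • 𝟙 F)) fun b hb => by
      obtain ⟨r, rfl⟩ := mem_span_pow hb
      have h0 : a ^ (n + 1) • cokernel.π (a ^ (n + 1) • 𝟙 F) = 0 := by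
        rw [← cokernel.condition (a ^ (n + 1) • 𝟙 F), Linear.smul_comp, Category.id_comp]
      rw [mul_smul, h0, smul_zero]
    have h0 : (sec Λ V).map (cokernel.π (a ^ (n + 1) • 𝟙 F)) x = 0 := by
      rw [← hψ, Functor.map_comp, ConcreteCategory.comp_apply, hx, map_zero]
    obtain ⟨m, hm⟩ := exact_sec hV (S := ShortComplex.mk _ _ (cokernel.condition (a ^ (n + 1) • 𝟙 F)))
      (ShortComplex.exact_of_g_is_cokernel _ (cokernelIsCokernel _)) x h0
    exact ⟨m, (sec_smul_id V F _ m).symm.trans hm⟩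
  · rintro ⟨m, rfl⟩
    rw [← sec_smul_id V F, ← ConcreteCategory.comp_apply, ← Functor.map_comp, Linear.smul_comp, Category.id_comp,
      hk _ (Ideal.pow_mem_pow (Ideal.mem_span_singleton_self a) _), Functor.map_zero]
    rfl

omit [ProEtS.EpsCont X] in
theorem isIso_lift_iff {F : EtModW.ModP Λ X} (Q : ℕᵒᵖ ⥤ EtModW.ModP Λ X) (p : (Functor.const ℕᵒᵖ).obj F ⟶ Q)
    (hQ : ∀ n : ℕ, ARSys.IsQuot (Ideal.span {a} ^ (n + 1)) (p.app (op n))) :
    IsIso (limit.lift Q (Cone.mk F p)) ↔ ∀ V : X.ProEt, ProEtS.IsWC V → AdicComplete a ((sec Λ V).obj F) := by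
  let l := limit.lift Q (Cone.mk F p)
  have hl : ∀ (V : X.ProEt) (n : ℕ) (y : (sec Λ V).obj F),
      (sec Λ V).map (limit.π Q (op n)) ((sec Λ V).map l y) = (sec Λ V).map (p.app (op n)) y := fun V n y => by
    rw [← ConcreteCategory.comp_apply, ← Functor.map_comp]
    exact congrArg (fun q => (sec Λ V).map q y) (limit.lift_π _ _)
  have htr : ∀ (V : X.ProEt) {i k : ℕ} (h : i ≤ k) (y : (sec Λ V).obj F),
      ARSys.tr (Q ⋙ sec Λ V) h ((sec Λ V).map (p.app (op k)) y) = (sec Λ V).map (p.app (op i)) y := fun V i k h y => by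
    have e := (p.naturality (homOfLE h).op).symm.trans (Category.id_comp _)
    rw [← ConcreteCategory.comp_apply]
    refine (ConcreteCategory.congr_hom ((sec Λ V).map_comp _ _).symm y).trans ?_
    exact congrArg (fun q => (sec Λ V).map q y) e
  refine ⟨fun hi V hV => ?_, fun hC => ?_⟩
  · have hb : Function.Bijective ((sec Λ V).map l) := ConcreteCategory.bijective_of_isIso ((sec Λ V).map l)
    refine ⟨fun x hx => hb.1 ?_, fun x hx => ?_⟩
    · rw [map_zero]
      refine sec_limit_ext Q fun n => ?_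
      rw [map_zero, hl V n.unop]
      exact ((sec_isQuot (hQ n.unop) hV).2 x).2 (hx n.unop)
    · have hstep : ∀ i k, i ≤ k → (sec Λ V).map (p.app (op i)) (x k) = (sec Λ V).map (p.app (op i)) (x i) := by
        intro i k h
        induction k, h using Nat.le_induction with
        | base => rfl
        | succ k h ih =>
          rw [← ih, ← sub_eq_zero, ← map_sub]
          obtain ⟨m, hm⟩ := hx k
          exact ((sec_isQuot (hQ i) hV).2 _).2 ⟨a ^ (k - i) • m, by
            rw [smul_smul, ← pow_add, show i + 1 + (k - i) = k + 1 by omega, hm]⟩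
      obtain ⟨z, hz⟩ := exists_limit_elem (Q ⋙ sec Λ V) (fun n => (sec Λ V).map (p.app (op n)) (x n))
        fun i k h => (htr V h (x k)).trans (hstep i k h)
      obtain ⟨z', hz'⟩ := exists_sec_limit Q V z
      obtain ⟨y, rfl⟩ := hb.2 z'
      refine ⟨y, fun n => ((sec_isQuot (hQ n) hV).2 _).1 ?_⟩
      rw [map_sub, sub_eq_zero, ← hl V n y]
      exact (hz' (op n)).trans (hz n)
  · have : Mono l := Preadditive.mono_of_cancel_zero l fun {P} φ hφ => hom_ext_of_wc _ _ fun V hV x => by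
      have h0 : (sec Λ V).map φ x = 0 := (hC V hV).1 _ fun n => ((sec_isQuot (hQ n) hV).2 _).1 (by
        rw [← hl V n, ← ConcreteCategory.comp_apply ((sec Λ V).map φ), ← Functor.map_comp, hφ, Functor.map_zero]
        exact map_zero _)
      rw [h0, Functor.map_zero]
      rfl
    have : Epi l := ProEtDCLib.epi_of_wc _ fun V hV z => by
      choose x hx using fun n => (sec_isQuot (hQ n) hV).1 ((sec Λ V).map (limit.π Q (op n)) z)
      obtain ⟨y, hy⟩ := (hC V hV).2 x fun n => ((sec_isQuot (hQ n) hV).2 _).1 (by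
        rw [map_sub, sub_eq_zero, hx n, ← htr V (Nat.le_succ n), hx (n + 1), ← ConcreteCategory.comp_apply]
        refine (ConcreteCategory.congr_hom ((sec Λ V).map_comp _ _).symm z).trans ?_
        exact congrArg (fun q => (sec Λ V).map q z) (limit.w Q (homOfLE (Nat.le_succ n)).op))
      refine ⟨y, sec_limit_ext Q fun n => ?_⟩
      rw [hl V n.unop]
      have := ((sec_isQuot (hQ n.unop) hV).2 _).2 (hy n.unop)
      rw [map_sub, sub_eq_zero] at this
      exact this.trans (hx n.unop)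
    exact isIso_of_mono_of_epi l

variable [IsNoetherianRing Λ] [IsLocallyNoetherian X] [CompactSpace X]

theorem IsAdicP.isEC_kernel_smul {F : EtModW.ModP Λ X} (hF : IsAdicP (Ideal.span {a}) F) (n : ℕ) :
    IsEC (kernel (a ^ (n + 1) • 𝟙 F)) ∧ IsEC (cokernel (a ^ (n + 1) • 𝟙 F)) := by
  obtain ⟨hk, hc⟩ := isAdicP_kernel_cokernel hF hF (a ^ (n + 1) • 𝟙 F)
  refine ⟨hk.isEC_of_killed n fun b hb => ?_, hc.isEC_of_killed n fun b hb => ?_⟩
  · obtain ⟨r, rfl⟩ := mem_span_pow hb
    refine (cancel_mono (kernel.ι _)).1 ?_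
    have := kernel.condition (a ^ (n + 1) • 𝟙 F)
    rw [Linear.comp_smul, Category.comp_id] at this
    rw [mul_smul, Linear.smul_comp, Linear.smul_comp, Category.id_comp, this, smul_zero, zero_comp]
  · obtain ⟨r, rfl⟩ := mem_span_pow hb
    refine (cancel_epi (cokernel.π _)).1 ?_
    have := cokernel.condition (a ^ (n + 1) • 𝟙 F)
    rw [Linear.smul_comp, Category.id_comp] at this
    rw [mul_smul, Linear.comp_smul, Linear.comp_smul, Category.comp_id, this, smul_zero, comp_zero]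

/-- the torsion of an adic sheaf is bounded -/
theorem IsAdicP.exists_torsion_bound {F : EtModW.ModP Λ X} (hF : IsAdicP (Ideal.span {a}) F) :
    ∃ c : ℕ, ∀ V : X.ProEt, ProEtS.IsWC V → ∀ (k : ℕ) (m : (sec Λ V).obj F), a ^ k • m = 0 → a ^ c • m = 0 := by
  let Z : ℕ →o Subobject F := ⟨fun k => kernelSubobject (a ^ k • 𝟙 F), monotone_nat_of_le_succ fun k => by
    refine le_kernelSubobject _ _ ?_
    have := kernelSubobject_arrow_comp (a ^ k • 𝟙 F)
    rw [Linear.comp_smul, Category.comp_id] at this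
    rw [pow_succ', mul_smul, Linear.comp_smul, Linear.comp_smul, Category.comp_id, this, smul_zero]⟩
  obtain ⟨c, hc⟩ := chain_stabilizes_adicP hF Z fun k =>
    isAdicP_of_iso (IsNoetherian.noetherian _) (isAdicP_kernel_cokernel hF hF (a ^ k • 𝟙 F)).1
      (kernelSubobjectIso _).symm
  refine ⟨c, fun V hV k m hm => ?_⟩
  rcases le_total k c with h | h
  · obtain ⟨d, rfl⟩ := Nat.le.dest h
    rw [pow_add, mul_comm, mul_smul, hm, smul_zero]
  · obtain ⟨y, hy⟩ := exact_sec hV (S := ShortComplex.mk _ _ (kernel.condition (a ^ k • 𝟙 F)))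
      (ShortComplex.exact_of_f_is_kernel _ (kernelIsKernel _)) m ((sec_smul_id V F _ m).trans hm)
    rw [← sec_smul_id V F, ← hy, ← ConcreteCategory.comp_apply, ← Functor.map_comp]
    have h0 : (Z k).arrow ≫ (a ^ c • 𝟙 F) = 0 := by
      rw [hc k h]
      exact kernelSubobject_arrow_comp _
    have h1 : kernel.ι (a ^ k • 𝟙 F) ≫ (a ^ c • 𝟙 F) = 0 := by
      rw [← kernelSubobject_arrow', Category.assoc]
      exact (congrArg ((kernelSubobjectIso _).inv ≫ ·) h0).trans comp_zero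
    exact (congrArg (fun q => (sec Λ V).map q y) h1).trans (by rw [Functor.map_zero]; rfl)

/-- extensions of adic sheaves for a principal ideal are adic -/
theorem isAdicP_of_shortExact {S : ShortComplex (EtModW.ModP Λ X)} (hS : S.ShortExact)
    (h₁ : IsAdicP (Ideal.span {a}) S.X₁) (h₃ : IsAdicP (Ideal.span {a}) S.X₃) :
    IsAdicP (Ideal.span {a}) S.X₂ := by
  let π : ∀ n, S.X₂ ⟶ cokernel (a ^ (n + 1) • 𝟙 S.X₂) := fun n => cokernel.π _
  have hkill : ∀ n, ARSys.HomKilledBy (Ideal.span {a} ^ (n + 1)) (π n) := fun n b hb => by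
    obtain ⟨r, rfl⟩ := mem_span_pow hb
    have := cokernel.condition (a ^ (n + 1) • 𝟙 S.X₂)
    rw [Linear.smul_comp, Category.id_comp] at this
    rw [mul_smul, this, smul_zero]
  have hdesc : ∀ n, (a ^ (n + 1 + 1) • 𝟙 S.X₂) ≫ π n = 0 := fun n => by
    rw [Linear.smul_comp, Category.id_comp]
    exact hkill n _ (Ideal.pow_le_pow_right (Nat.le_succ (n + 1))
      (Ideal.pow_mem_pow (Ideal.mem_span_singleton_self a) _))
  let Q : ℕᵒᵖ ⥤ EtModW.ModP Λ X := Functor.ofOpSequence
    (X := fun n => cokernel (a ^ (n + 1) • 𝟙 S.X₂)) fun n => cokernel.desc _ (π n) (hdesc n)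
  let p : (Functor.const ℕᵒᵖ).obj S.X₂ ⟶ Q := NatTrans.ofOpSequence π fun n => by
    rw [Functor.ofOpSequence_map_homOfLE_succ, Functor.const_obj_map]
    exact (Category.id_comp (π n)).trans (cokernel.π_desc _ _ _).symm
  have hQ : ∀ n : ℕ, ARSys.IsQuot (Ideal.span {a} ^ (n + 1)) (p.app (op n)) := fun n => by
    refine ⟨fun b hb => ?_, fun Y φ hφ => ?_⟩
    · show b • 𝟙 (cokernel (a ^ (n + 1) • 𝟙 S.X₂)) = 0
      refine (cancel_epi (π n)).1 ?_
      rw [Linear.comp_smul, Category.comp_id, comp_zero]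
      exact hkill n b hb
    · have h0 : (a ^ (n + 1) • 𝟙 S.X₂) ≫ φ = 0 := by
        rw [Linear.smul_comp, Category.id_comp]
        exact hφ _ (Ideal.pow_mem_pow (Ideal.mem_span_singleton_self a) _)
      exact ⟨cokernel.desc _ φ h0, cokernel.π_desc _ _ _,
        fun χ hχ => (cancel_epi (π n)).1 (hχ.trans (cokernel.π_desc _ _ _).symm)⟩
  refine ⟨Q, p, hQ, fun n => ?_, (isIso_lift_iff Q p hQ).2 fun V hV => ?_⟩
  · let φ : S ⟶ S :=
      { τ₁ := a ^ (n + 1) • 𝟙 _, τ₂ := a ^ (n + 1) • 𝟙 _, τ₃ := a ^ (n + 1) • 𝟙 _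
        comm₁₂ := by rw [Linear.smul_comp, Linear.comp_smul, Category.id_comp, Category.comp_id]
        comm₂₃ := by rw [Linear.smul_comp, Linear.comp_smul, Category.id_comp, Category.comp_id] }
    exact IsEC.cokernel_middle hS φ (h₃.isEC_kernel_smul n).1 (h₁.isEC_kernel_smul n).2 (h₃.isEC_kernel_smul n).2
  · obtain ⟨Q₁, p₁, hQ₁, -, hi₁⟩ := h₁
    obtain ⟨c, hc⟩ := h₃.exists_torsion_bound
    obtain ⟨Q₃, p₃, hQ₃, -, hi₃⟩ := h₃
    have := hS.mono_f
    have := hS.epi_g
    have := ProEtDCLib.preservesHomology_sec Λ hV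
    have hm : Function.Injective ((sec Λ V).map S.f) := (ModuleCat.mono_iff_injective _).1 inferInstance
    exact adicComplete_middle ((sec Λ V).map S.f).hom ((sec Λ V).map S.g).hom hm
      (ProEtDCLib.sec_surjective Λ hV S.g) (exact_sec hV hS.exact)
      (fun y => by
        rw [← ConcreteCategory.comp_apply, ← Functor.map_comp, S.zero, Functor.map_zero]
        rfl)
      c (hc V hV) ((isIso_lift_iff Q₁ p₁ hQ₁).1 hi₁ V hV) ((isIso_lift_iff Q₃ p₃ hQ₃).1 hi₃ V hV)

end Groth.Agent.EtModWLib
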