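import Groth.Agent.EtModWLib.AdicP.SecQuot
import Groth.Agent.EtModWLib.AdicP.Equiv
import Groth.Agent.EpsPush13.Compare
import Groth.Agent.ProEtPush13.Exact

/-! direct images of adic pro-etale sheaves -/

universe u

open CategoryTheory CategoryTheory.Limits AlgebraicGeometry Opposite

namespace Groth.Agent.EtModWLib

open ProEtDCLib (sec)

set_option backward.isDefEq.respectTransparency.types false

variable (Λ : Type (u + 1)) [CommRing Λ] {Z X : Scheme.{u}} (f : Z ⟶ X) [ProEtS.PCont f]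

/-- direct image of sheaves of modules on the pro-etale sites -/
noncomputable abbrev pushPM : EtModW.ModP Λ Z ⥤ EtModW.ModP Λ X :=
  (ProEtS.bcP f).sheafPushforwardContinuous (ModuleCat.{u + 1} Λ) (Scheme.ProEt.topology X) (Scheme.ProEt.topology Z)

instance pushPM_additive : (pushPM Λ f).Additive where

instance pushPM_linear : (pushPM Λ f).Linear Λ where

variable {Λ f}

/-- the image of a quotient modulo an ideal is a quotient modulo that ideal -/
theorem isQuot_pushPM (hf : ProEtPush13.KeepsWC f) {J : Ideal Λ} {F Q : EtModW.ModP Λ Z} {p : F ⟶ Q} [Epi p]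
    (hp : ARSys.IsQuot J p) : ARSys.IsQuot J ((pushPM Λ f).map p) := by
  refine ⟨fun a ha => ?_, fun Tgt φ hφ => ?_⟩
  · rw [← CategoryTheory.Functor.map_id, ← Functor.map_smul, hp.1 a ha, Functor.map_zero]
  have hepi : Epi ((pushPM Λ f).map p) := by
    refine (Sheaf.isLocallySurjective_iff_epi' _ _).1 ⟨fun {V} s => ?_⟩
    obtain ⟨ι, W, g, hg, hW⟩ := ProEtLib.exists_wc_cover_family V
    refine GrothendieckTopology.superset_covering _ ?_ hg
    refine (Sieve.generate_le_iff _ _).2 ?_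
    rintro _ _ ⟨k⟩
    obtain ⟨ha, hw⟩ := hf (W k).left (W k).hom (hW k).1 (hW k).2
    haveI : IsAffine ((ProEtS.bcP f).obj (W k)).left := ha
    exact ProEtDCLib.sec_surjective Λ (ProEtLib.isWC_of_criterion (ProEtLib.criterion_of_wContractible hw)) p _
  have hk : kernel.ι ((pushPM Λ f).map p) ≫ φ = 0 := by
    refine Sheaf.hom_ext (NatTrans.ext (funext fun T => ModuleCat.hom_ext (LinearMap.ext fun x => ?_)))
    obtain ⟨ι, W, g, hg, hW⟩ := ProEtLib.exists_wc_cover_family T.unop
    refine ((Presieve.isSheafFor_iff_generate _).2 (((isSheaf_iff_isSheaf_of_type _ _).1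
      ((sheafCompose _ (forget (ModuleCat.{u + 1} Λ))).obj Tgt).2) _ hg)).isSeparatedFor.ext ?_
    rintro _ _ ⟨k⟩
    obtain ⟨ha, hw⟩ := hf (W k).left (W k).hom (hW k).1 (hW k).2
    haveI : IsAffine ((ProEtS.bcP f).obj (W k)).left := ha
    let y := (sec Λ (W k)).map (kernel.ι ((pushPM Λ f).map p))
      ((kernel ((pushPM Λ f).map p)).obj.map (g k).op x)
    have hy : y ∈ J • (⊤ : Submodule Λ (F.obj.obj (op ((ProEtS.bcP f).obj (W k))))) := by
      refine mem_smul_of_isQuot hp (ProEtLib.isWC_of_criterion (ProEtLib.criterion_of_wContractible hw)) ?_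
      have := congrArg (fun q => (sec Λ (W k)).map q ((kernel ((pushPM Λ f).map p)).obj.map (g k).op x))
        (kernel.condition ((pushPM Λ f).map p))
      exact this
    have hz : (sec Λ (W k)).map φ y = 0 := by
      let φV : F.obj.obj (op ((ProEtS.bcP f).obj (W k))) →ₗ[Λ] Tgt.obj.obj (op (W k)) := (φ.hom.app (op (W k))).hom
      show φV y = 0
      exact Submodule.smul_induction_on (p := fun y => φV y = 0) hy
        (fun a ha z _ => (φV.map_smul a z).trans (ConcreteCategory.congr_hom (congrArg (fun q : (pushPM Λ f).obj F ⟶ Tgt => q.hom.app (op (W k))) (hφ a ha)) z))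
        fun u v hu hv => by rw [map_add, hu, hv, add_zero]
    refine (NatTrans.naturality_apply (kernel.ι ((pushPM Λ f).map p) ≫ φ).hom (g k).op x).symm.trans
      (hz.trans (map_zero (Tgt.obj.map (g k).op).hom).symm)
  exact ⟨Abelian.epiDesc _ φ hk, Abelian.comp_epiDesc _ φ hk,
    fun χ hχ => (cancel_epi _).1 (hχ.trans (Abelian.comp_epiDesc _ φ hk).symm)⟩

variable [ProEtS.EpsCont Z] [ProEtS.EpsCont X]

/-- direct image commutes with the inclusion of the etale site -/
theorem exists_pushPM_iso [QuasiCompact f] [QuasiSeparated f] (E : EtModW.Mod Λ Z) :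
    Nonempty ((EtModW.epsPullMod Λ X).obj ((EtModW.push Λ f).obj E) ≅
      (pushPM Λ f).obj ((EtModW.epsPullMod Λ Z).obj E)) := by
  obtain ⟨G, ⟨e⟩⟩ := essImage_epsPullMod_of_ab (A := (pushPM Λ f).obj ((EtModW.epsPullMod Λ Z).obj E))
    ⟨(EtCoh.push f).obj ((abEt Λ Z).obj E), ⟨(EpsPush13.compareIso f).app ((abEt Λ Z).obj E) ≪≫
      (ProEtS.pushP f).mapIso ((abEpsIso Λ Z).app E).symm⟩⟩
  haveI := Functor.isContinuous_comp (ProEtS.eps X) (ProEtS.bcP f) X.smallEtaleTopology (Scheme.ProEt.topology X)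
    (Scheme.ProEt.topology Z)
  let c1 := Functor.sheafPushforwardContinuousComp' (F := EtCoh.bc f) (G := ProEtS.eps Z)
        (FG := ProEtS.eps X ⋙ ProEtS.bcP f) (bcEpsIso f)
        (ModuleCat.{u + 1} Λ) X.smallEtaleTopology Z.smallEtaleTopology (Scheme.ProEt.topology Z)
  let c2 := Functor.sheafPushforwardContinuousComp' (F := ProEtS.eps X) (G := ProEtS.bcP f)
        (FG := ProEtS.eps X ⋙ ProEtS.bcP f) (Iso.refl _)
        (ModuleCat.{u + 1} Λ) X.smallEtaleTopology (Scheme.ProEt.topology X) (Scheme.ProEt.topology Z)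
  let i : G ≅ (EtModW.push Λ f).obj E :=
    asIso ((epsAdjMod (Λ := Λ) (X := X)).unit.app G) ≪≫
      ((ProEtS.eps X).sheafPushforwardContinuous (ModuleCat.{u + 1} Λ) X.smallEtaleTopology
        (Scheme.ProEt.topology X)).mapIso e ≪≫
      c2.app ((EtModW.epsPullMod Λ Z).obj E) ≪≫ c1.symm.app ((EtModW.epsPullMod Λ Z).obj E) ≪≫
      (EtModW.push Λ f).mapIso (asIso ((epsAdjMod (Λ := Λ) (X := Z)).unit.app E)).symm
  exact ⟨(EtModW.epsPullMod Λ X).mapIso i.symm ≪≫ e⟩

/-- direct images of adic sheaves along maps keeping weak contractibility are adic -/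
theorem isAdicP_pushPM [QuasiCompact f] [QuasiSeparated f] (hf : ProEtPush13.KeepsWC f) {I : Ideal Λ}
    (hpush : ∀ E : EtModW.Mod Λ Z, EtModW.IsConstructible Λ E → EtModW.IsConstructible Λ ((EtModW.push Λ f).obj E))
    {F : EtModW.ModP Λ Z} (hF : IsAdicP I F) : IsAdicP I ((pushPM Λ f).obj F) := by
  obtain ⟨Q, p, hQ, hc, hlim⟩ := hF
  let R := pushPM Λ f
  let p' : (Functor.const ℕᵒᵖ).obj (R.obj F) ⟶ Q ⋙ R :=
    { app := fun n => R.map (p.app n)
      naturality := fun n m h => by
        show 𝟙 _ ≫ R.map (p.app m) = R.map (p.app n) ≫ R.map (Q.map h)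
        rw [Category.id_comp, ← Functor.map_comp]
        exact congrArg (fun q => R.map q) ((Category.id_comp _).symm.trans (p.naturality h)) }
  refine ⟨Q ⋙ R, p', fun n => ?_, fun n => ?_, ?_⟩
  · have : Epi (p.app (op n)) := ⟨fun {Y} α β h => by
      obtain ⟨χ, -, hu⟩ := (hQ n).2 Y (p.app (op n) ≫ α) (fun b hb => by
        rw [← Linear.smul_comp]
        refine (congrArg (· ≫ α) ?_).trans zero_comp
        rw [← Category.comp_id (p.app (op n)), ← Linear.comp_smul]
        exact (congrArg (p.app (op n) ≫ ·) ((hQ n).1 b hb)).trans comp_zero)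
      exact (hu α rfl).trans (hu β h.symm).symm⟩
    exact isQuot_pushPM hf (hQ n)
  · obtain ⟨E, hE, ⟨e⟩⟩ := hc n
    obtain ⟨i⟩ := exists_pushPM_iso (f := f) E
    exact ⟨_, hpush E hE, ⟨i ≪≫ R.mapIso e⟩⟩
  · have : R.IsRightAdjoint := ((ProEtS.bcP f).sheafAdjunctionContinuous (ModuleCat.{u + 1} Λ)
      (Scheme.ProEt.topology X) (Scheme.ProEt.topology Z)).isRightAdjoint
    let e := preservesLimitIso R Q
    have hl : limit.lift (Q ⋙ R) (Cone.mk (R.obj F) p') = R.map (limit.lift Q (Cone.mk F p)) ≫ e.hom :=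
      limit.hom_ext fun n => by
        rw [limit.lift_π, Category.assoc, preservesLimitIso_hom_π, ← Functor.map_comp, limit.lift_π]
    rw [hl]
    infer_instance

end Groth.Agent.EtModWLib
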