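import Groth.Agent.EtModWLib.AdicP.ExtZero
import Groth.Agent.EtModWLib.AdicP.Push
import Groth.Agent.EtModWLib.AdicP.Principal
import Groth.Agent.ProEtPush13.Recollement

/-! adic pro-etale sheaves are detected on an open part and its closed complement -/

universe u

open CategoryTheory CategoryTheory.Limits AlgebraicGeometry Opposite

namespace Groth.Agent.EtModWLib

set_option backward.isDefEq.respectTransparency.types false

variable (Λ : Type (u + 1)) [CommRing Λ]

/-- inverse image of sheaves of modules on the pro-etale sites -/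
noncomputable abbrev pullPM {Z X : Scheme.{u}} (i : Z ⟶ X) [ProEtS.PCont i] : EtModW.ModP Λ X ⥤ EtModW.ModP Λ Z :=
  (ProEtS.bcP i).sheafPullback (ModuleCat.{u + 1} Λ) (Scheme.ProEt.topology X) (Scheme.ProEt.topology Z)

/-- inverse image is left adjoint to direct image -/
noncomputable abbrev pullPushPM {Z X : Scheme.{u}} (i : Z ⟶ X) [ProEtS.PCont i] : pullPM Λ i ⊣ pushPM Λ i :=
  (ProEtS.bcP i).sheafAdjunctionContinuous _ _ _

/-- restriction along an open immersion is the inverse image -/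
noncomputable def restrPullIso {U X : Scheme.{u}} (j : U ⟶ X) [WeaklyEtale j] [ProEtS.JPCont j] [ProEtS.PCont j] :
    restrPM Λ j ≅ pullPM Λ j :=
  let adj : ProEtS.compP j ⊣ ProEtS.bcP j :=
    MorphismProperty.Over.mapPullbackAdj (@WeaklyEtale) ⊤ j inferInstance trivial
  (adj.sheafPushforwardContinuous (E := ModuleCat.{u + 1} Λ) (Scheme.ProEt.topology U)
    (Scheme.ProEt.topology X)).leftAdjointUniq (pullPushPM Λ j)

variable {Λ}

section Closed

variable {Z X : Scheme.{u}} {i : Z ⟶ X} [IsClosedImmersion i] [ProEtS.PCont i]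

theorem pushP_fullyFaithful : (ProEtS.pushP i).Full ∧ (ProEtS.pushP i).Faithful := by
  haveI : IsIso (ProEtS.pullPushAdjP i).counit :=
    haveI := fun G => ProEtPush13.counit_isIso (i := i) G
    NatIso.isIso_of_isIso_app _
  exact ⟨(ProEtS.pullPushAdjP i).fullyFaithfulROfIsIsoCounit.full,
    (ProEtS.pullPushAdjP i).fullyFaithfulROfIsIsoCounit.faithful⟩

theorem isIso_counit_pullPushPM (G : EtModW.ModP Λ Z) : IsIso ((pullPushPM Λ i).counit.app G) := by
  haveI := (pushP_fullyFaithful (i := i)).1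
  haveI := (pushP_fullyFaithful (i := i)).2
  haveI : (pushPM Λ i).Faithful := ⟨fun {A B a b} h => by
    refine (abPro Λ Z).map_injective ((ProEtS.pushP i).map_injective ?_)
    exact congrArg (fun q => (abPro Λ X).map q) h⟩
  haveI : (pushPM Λ i).Full := ⟨fun {A B} g => by
    obtain ⟨ψ, hψ⟩ := (ProEtS.pushP i).map_surjective (X := (abPro Λ Z).obj A) (Y := (abPro Λ Z).obj B)
      ((abPro Λ X).map g)
    obtain ⟨φ, hφ⟩ := exists_lift_of_comm (J := Scheme.ProEt.topology Z) ψ fun r => by
      refine (ProEtS.pushP i).map_injective ?_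
      rw [Functor.map_comp, Functor.map_comp, hψ]
      show (abPro Λ X).map ((pushPM Λ i).map (r • 𝟙 A)) ≫ (abPro Λ X).map g =
        (abPro Λ X).map g ≫ (abPro Λ X).map ((pushPM Λ i).map (r • 𝟙 B))
      rw [← Functor.map_comp, ← Functor.map_comp, Functor.map_smul, Functor.map_smul, CategoryTheory.Functor.map_id,
        CategoryTheory.Functor.map_id, Linear.smul_comp, Linear.comp_smul, Category.id_comp, Category.comp_id]
    refine ⟨φ, (abPro Λ X).map_injective ?_⟩
    show (ProEtS.pushP i).map ((abPro Λ Z).map φ) = _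
    rw [← hψ]
    exact congrArg (fun q => (ProEtS.pushP i).map q) hφ⟩
  infer_instance

theorem preservesFiniteLimits_pullPM : PreservesFiniteLimits (pullPM Λ i) := by
  haveI : PreservesLimitsOfSize.{u, u} (ProEtS.pullP i) :=
    ⟨fun {J} _ => ProEtPush13.pullP_preservesLimitsOfShape (i := i) J⟩
  haveI : PreservesFiniteLimits (ProEtS.pullP i) := PreservesLimitsOfSize.preservesFiniteLimits _
  haveI := preservesFiniteLimits_abPro (Λ := Λ) (X := X)
  haveI := preservesFiniteLimits_abPro (Λ := Λ) (X := Z)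
  refine ⟨fun J _ _ => ?_⟩
  haveI : PreservesLimitsOfShape J (pullPM Λ i ⋙ abPro Λ Z) :=
    preservesLimitsOfShape_of_natIso (abPullIso Λ (ProEtS.bcP i)).symm
  haveI : ReflectsLimitsOfShape J (abPro Λ Z) := reflectsLimitsOfShape_of_reflectsIsomorphisms
  exact preservesLimitsOfShape_of_reflects_of_preserves (pullPM Λ i) (abPro Λ Z)

end Closed

variable {U Z X : Scheme.{u}} {j : U ⟶ X} [IsOpenImmersion j] [QuasiCompact j] [WeaklyEtale j] [ProEtS.JPCont j]
  {i : Z ⟶ X} [IsClosedImmersion i] [ProEtS.PCont i]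

omit [QuasiCompact j] [IsOpenImmersion j] [IsClosedImmersion i] in
theorem isZero_of_ab {W : Scheme.{u}} {A : EtModW.ModP Λ W} (h : IsZero ((abPro Λ W).obj A)) : IsZero A :=
  (IsZero.iff_id_eq_zero _).2 ((abPro Λ W).map_injective (h.eq_of_src _ _))

theorem isZero_of_partsPM (hc : Set.range j.base = (Set.range i.base)ᶜ) {A : EtModW.ModP Λ X}
    (hi : IsZero ((pullPM Λ i).obj A)) (hj : IsZero ((restrPM Λ j).obj A)) : IsZero A := by
  haveI : ∀ W : Scheme.{u}, (abPro Λ W).Additive := fun W => ⟨rfl⟩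
  exact isZero_of_ab (ProEtPush13.isZero_of_parts hc _
    (((abPro Λ Z).map_isZero hi).of_iso ((abPullIso Λ (ProEtS.bcP i)).app A).symm) ((abPro Λ U).map_isZero hj))

theorem recollementPM (hc : Set.range j.base = (Set.range i.base)ᶜ) (F : EtModW.ModP Λ X) :
    ∃ h : (extAdjPM Λ j).counit.app F ≫ (pullPushPM Λ i).unit.app F = 0, (ShortComplex.mk _ _ h).ShortExact := by
  haveI : ProEtS.PCont j := ProEtLib.pCont j
  let R := restrPM Λ j
  let L := pullPM Λ i
  haveI : R.IsLeftAdjoint := ((pullPushPM Λ j).ofNatIsoLeft (restrPullIso Λ j).symm).isLeftAdjoint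
  haveI : R.IsRightAdjoint := (extAdjPM Λ j).isRightAdjoint
  haveI : L.IsLeftAdjoint := (pullPushPM Λ i).isLeftAdjoint
  haveI : L.Additive := (pullPushPM Λ i).left_adjoint_additive
  haveI : PreservesFiniteLimits L := preservesFiniteLimits_pullPM (i := i)
  have hRi : ∀ H : EtModW.ModP Λ Z, IsZero (R.obj ((pushPM Λ i).obj H)) := fun H =>
    isZero_of_ab (ProEtPush13.isZero_restr_push hc ((abPro Λ Z).obj H))
  have hLj : ∀ A : EtModW.ModP Λ U, IsZero (L.obj ((extPM Λ j).obj A)) := fun A =>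
    (IsZero.iff_id_eq_zero _).2 (((pullPushPM Λ i).homEquiv _ _).injective
      (((extAdjPM Λ j).homEquiv _ _).injective ((hRi _).eq_of_tgt _ _)))
  let c := (extAdjPM Λ j).counit.app F
  let η := (pullPushPM Λ i).unit.app F
  have w : c ≫ η = 0 := ((extAdjPM Λ j).homEquiv _ _).injective ((hRi _).eq_of_tgt _ _)
  refine ⟨w, ?_⟩
  let S := ShortComplex.mk c η w
  haveI : R.Additive := restrPM_additive Λ j
  haveI : R.PreservesZeroMorphisms := Functor.preservesZeroMorphisms_of_additive R
  haveI : L.PreservesZeroMorphisms := Functor.preservesZeroMorphisms_of_additive L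
  haveI hRc : IsIso (R.map c) :=
    @IsIso.of_isIso_fac_left _ _ _ _ _ _ _ _ (isIso_unit_extPM (R.obj F)) (IsIso.id _)
      ((extAdjPM Λ j).right_triangle_components F)
  haveI hLη : IsIso (L.map η) := by
    haveI : IsIso ((pullPushPM Λ i).counit.app (L.obj F)) := isIso_counit_pullPushPM (Λ := Λ) (i := i) (L.obj F)
    haveI : IsIso (L.map η ≫ (pullPushPM Λ i).counit.app (L.obj F)) := by
      rw [(pullPushPM Λ i).left_triangle_components F]
      exact IsIso.id _
    exact IsIso.of_isIso_comp_right (L.map η) ((pullPushPM Λ i).counit.app (L.obj F))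
  have hR : (S.map R).Exact ∧ Mono (R.map c) ∧ Epi (R.map η) :=
    ⟨(ShortComplex.exact_iff_epi _ ((hRi _).eq_of_tgt _ _)).2 (@IsIso.epi_of_iso _ _ _ _ _ hRc), @IsIso.mono_of_iso _ _ _ _ _ hRc,
      ⟨fun a b _ => (hRi (L.obj F)).eq_of_src _ _⟩⟩
  have hL : (S.map L).Exact ∧ Mono (L.map c) ∧ Epi (L.map η) :=
    ⟨(ShortComplex.exact_iff_mono _ ((hLj _).eq_of_src _ _)).2 (@IsIso.mono_of_iso _ _ _ _ _ hLη),
      ⟨fun a b _ => (hLj (R.obj F)).eq_of_tgt _ _⟩, @IsIso.epi_of_iso _ _ _ _ _ hLη⟩
  refine ShortComplex.ShortExact.mk' ?_ ?_ ?_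
  · rw [ShortComplex.exact_iff_isZero_homology]
    exact isZero_of_partsPM hc (((ShortComplex.exact_iff_isZero_homology _).1 hL.1).of_iso (S.mapHomologyIso L).symm)
      (((ShortComplex.exact_iff_isZero_homology _).1 hR.1).of_iso (S.mapHomologyIso R).symm)
  · haveI := hL.2.1
    haveI := hR.2.1
    exact Preadditive.mono_of_isZero_kernel c (isZero_of_partsPM hc
      ((isZero_kernel_of_mono (L.map c)).of_iso (PreservesKernel.iso L c))
      ((isZero_kernel_of_mono (R.map c)).of_iso (PreservesKernel.iso R c)))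
  · haveI := hL.2.2
    haveI := hR.2.2
    exact Preadditive.epi_of_isZero_cokernel η (isZero_of_partsPM hc
      ((isZero_cokernel_of_epi (L.map η)).of_iso (PreservesCokernel.iso L η))
      ((isZero_cokernel_of_epi (R.map η)).of_iso (PreservesCokernel.iso R η)))

end Groth.Agent.EtModWLib
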