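import Groth.Agent.EtModWLib.AdicP.Sections
import Groth.Agent.ProEtPush13.ExtZero

/-! sections of a quotient modulo an ideal over affine weakly contractible objects -/

universe u

open CategoryTheory CategoryTheory.Limits AlgebraicGeometry Opposite

namespace Groth.Agent.EtModWLib

open ProEtDCLib (sec)

set_option backward.isDefEq.respectTransparency.types false

variable {Λ : Type (u + 1)} [CommRing Λ] {X : Scheme.{u}} {J : Ideal Λ}

theorem exists_finset_mem_smul {M : Type*} [AddCommGroup M] [Module Λ M] {y : M} (hy : y ∈ J • (⊤ : Submodule Λ M)) :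
    ∃ t : Finset Λ, (∀ a ∈ t, a ∈ J) ∧ y ∈ Ideal.span (t : Set Λ) • (⊤ : Submodule Λ M) := by
  classical
  refine Submodule.smul_induction_on hy (fun a ha z _ => ⟨{a}, by simpa using ha, Submodule.smul_mem_smul
    (Ideal.subset_span (by simp)) trivial⟩) ?_
  rintro x y ⟨s, hs, hx⟩ ⟨t, ht, hy⟩
  refine ⟨s ∪ t, fun a ha => (Finset.mem_union.1 ha).elim (hs a) (ht a), add_mem ?_ ?_⟩
  · exact Submodule.smul_mono_left (Ideal.span_mono (by simp)) hx
  · exact Submodule.smul_mono_left (Ideal.span_mono (by simp)) hy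

/-- if a section lies in `J • F` locally on an affine weakly contractible object, it does so globally -/
theorem mem_smul_of_locally (F : EtModW.ModP Λ X) {V : X.ProEt} [IsAffine V.left] (hV : ProEtS.IsWC V)
    {R : Sieve V} (hR : R ∈ Scheme.ProEt.topology X V) (x : F.obj.obj (op V))
    (hx : ∀ ⦃W : X.ProEt⦄ (g : W ⟶ V), R g →
      (F.obj.map g.op x : F.obj.obj (op W)) ∈ J • (⊤ : Submodule Λ (F.obj.obj (op W)))) :
    x ∈ J • (⊤ : Submodule Λ (F.obj.obj (op V))) := by
  classical
  obtain ⟨n, W, g, hW, hs, hg⟩ := ProEtPush13.exists_affine_family hR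
  choose t htJ ht using fun k => exists_finset_mem_smul (hx (g k) (hg k))
  let T := Finset.univ.biUnion t
  have hTJ : ∀ a : T, (a : Λ) ∈ J := fun a => by
    obtain ⟨k, -, hk⟩ := Finset.mem_biUnion.1 a.2
    exact htJ k _ hk
  let f : (⨁ fun _ : T => F) ⟶ F := biproduct.desc fun a : T => (a : Λ) • 𝟙 F
  have hk0 : ∀ (U : X.ProEt) (y : F.obj.obj (op U)),
      y ∈ Ideal.span (T : Set Λ) • (⊤ : Submodule Λ (F.obj.obj (op U))) → (sec Λ U).map (cokernel.π f) y = 0 := by
    intro U y hy
    have hgen : ∀ a ∈ (T : Set Λ), a • cokernel.π f = 0 := fun a ha => by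
      have e : biproduct.ι (fun _ : T => F) ⟨a, ha⟩ ≫ f = a • 𝟙 F := biproduct.ι_desc _ _
      have h1 : (a • 𝟙 F) ≫ cokernel.π f = 0 := by
        rw [← e, Category.assoc, cokernel.condition, comp_zero]
      rwa [Linear.smul_comp, Category.id_comp] at h1
    refine Submodule.smul_induction_on hy (fun r hr z _ => ?_) fun p q hp hq => by rw [map_add, hp, hq, add_zero]
    refine Submodule.span_induction (p := fun b _ => (sec Λ U).map (cokernel.π f) (b • z) = 0) ?_ ?_ ?_ ?_ hr
    · intro a ha
      rw [map_smul]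
      exact (ConcreteCategory.congr_hom ((ProEtDCLib.sec_map_smul Λ U a (cokernel.π f)).symm.trans
        ((congrArg (fun q => (sec Λ U).map q) (hgen a ha)).trans (Functor.map_zero _ _ _))) z)
    · rw [zero_smul, map_zero]
    · intro a b _ _ ha hb
      rw [add_smul, map_add, ha, hb, add_zero]
    · intro r b _ hb
      rw [smul_eq_mul, mul_smul, map_smul, hb, smul_zero]
  have hcov : Sieve.generate (Presieve.ofArrows W g) ∈ Scheme.ProEt.topology X V :=
    ProEtPush13.mem_topology_of_affine_family W g hW hs fun k => Sieve.le_generate _ _ _ ⟨k⟩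
  have h0 : (sec Λ V).map (cokernel.π f) x = 0 := by
    refine ((Presieve.isSheafFor_iff_generate _).2 (((isSheaf_iff_isSheaf_of_type _ _).1
      ((sheafCompose _ (forget (ModuleCat.{u + 1} Λ))).obj (cokernel f)).2) _ hcov)).isSeparatedFor.ext ?_
    rintro _ _ ⟨k⟩
    refine (NatTrans.naturality_apply (cokernel.π f).hom (g k).op x).symm.trans ?_
    refine (hk0 (W k) _ (Submodule.smul_mono_left (Ideal.span_mono ?_) (ht k))).trans ?_
    · intro a ha
      exact Finset.mem_biUnion.2 ⟨k, Finset.mem_univ _, ha⟩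
    · exact (map_zero ((cokernel f).obj.map (g k).op).hom).symm
  have := ProEtDCLib.preservesHomology_sec Λ hV
  obtain ⟨z, rfl⟩ := (ShortComplex.moduleCat_exact_iff _).1
    (((ShortComplex.mk _ _ (cokernel.condition f)).exact_of_g_is_cokernel (cokernelIsCokernel f)).map (sec Λ V)) x h0
  show (sec Λ V).map f z ∈ _
  rw [show f = ∑ a : T, biproduct.π (fun _ : T => F) a ≫ ((a : Λ) • 𝟙 F) by
    refine biproduct.hom_ext' _ _ fun b => ?_
    rw [Preadditive.comp_sum, Finset.sum_eq_single b (fun c _ hc => by rw [biproduct.ι_π_ne_assoc _ hc.symm, zero_comp])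
      (fun h => (h (Finset.mem_univ b)).elim), biproduct.ι_π_self_assoc]
    exact biproduct.ι_desc _ _, Functor.map_sum]
  rw [show ((∑ a : T, (sec Λ V).map (biproduct.π (fun _ : T => F) a ≫ ((a : Λ) • 𝟙 F))) z) =
    ∑ a : T, (sec Λ V).map (biproduct.π (fun _ : T => F) a ≫ ((a : Λ) • 𝟙 F)) z by simp [LinearMap.sum_apply]]
  refine Submodule.sum_mem _ fun a _ => ?_
  rw [Linear.comp_smul, Category.comp_id, ProEtDCLib.sec_map_smul]
  exact Submodule.smul_mem_smul (hTJ a) trivial

/-- the presheaf `T ↦ F(T) / J F(T)` -/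
noncomputable def smulQuot (J : Ideal Λ) (F : EtModW.ModP Λ X) : X.ProEtᵒᵖ ⥤ ModuleCat.{u + 1} Λ where
  obj T := ModuleCat.of Λ (F.obj.obj T ⧸ (J • ⊤ : Submodule Λ (F.obj.obj T)))
  map {S T} g := ModuleCat.ofHom (Submodule.mapQ _ _ (F.obj.map g).hom
    (Submodule.map_le_iff_le_comap.1 (by
      rw [Submodule.map_smul'']
      exact Submodule.smul_mono le_rfl le_top)))
  map_id T := ModuleCat.hom_ext (Submodule.linearMap_qext _ (LinearMap.ext fun y =>
    congrArg (Submodule.Quotient.mk) (ConcreteCategory.congr_hom (F.obj.map_id T) y)))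
  map_comp g h := ModuleCat.hom_ext (Submodule.linearMap_qext _ (LinearMap.ext fun y =>
    congrArg (Submodule.Quotient.mk) (ConcreteCategory.congr_hom (F.obj.map_comp g h) y)))

/-- sections killed by a quotient map modulo `J` over an affine weakly contractible object are in `J • F` -/
theorem mem_smul_of_isQuot {F Q : EtModW.ModP Λ X} {p : F ⟶ Q} (hp : ARSys.IsQuot J p) {V : X.ProEt}
    [IsAffine V.left] (hV : ProEtS.IsWC V) {x : F.obj.obj (op V)} (hx : (sec Λ V).map p x = 0) :
    x ∈ J • (⊤ : Submodule Λ (F.obj.obj (op V))) := by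
  let K := Scheme.ProEt.topology X
  let q : F.obj ⟶ smulQuot J F :=
    { app := fun T => ModuleCat.ofHom (Submodule.mkQ _)
      naturality := fun S T g => ModuleCat.hom_ext (LinearMap.ext fun y => rfl) }
  let η := toSheafify K (smulQuot J F)
  let φ : F ⟶ (presheafToSheaf K _).obj (smulQuot J F) := ⟨q ≫ η⟩
  obtain ⟨ψ, hψ, -⟩ := hp.2 _ φ fun a ha => by
    refine Sheaf.hom_ext (NatTrans.ext (funext fun T => ModuleCat.hom_ext (LinearMap.ext fun y => ?_)))
    show a • η.app T (q.app T y) = 0
    rw [← map_smul, ← map_smul, show q.app T (a • y) = 0 from (Submodule.Quotient.mk_eq_zero _).2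
      (Submodule.smul_mem_smul ha trivial), map_zero]
  have h0 : η.app (op V) (q.app (op V) x) = η.app (op V) 0 := by
    rw [map_zero]
    have : (sec Λ V).map φ x = 0 := by rw [← hψ, Functor.map_comp, ConcreteCategory.comp_apply, hx, map_zero]
    exact this
  refine mem_smul_of_locally F hV (Presheaf.equalizerSieve_mem K η (q.app (op V) x) 0 h0) x fun W g hg => ?_
  refine (Submodule.Quotient.mk_eq_zero _).1 ?_
  have hg' : (smulQuot J F).map g.op (q.app (op V) x) = (smulQuot J F).map g.op 0 := hg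
  exact hg'.trans (map_zero _)

end Groth.Agent.EtModWLib
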