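import Groth.Agent.EtModWLib.AdicP.Tower
import Groth.Agent.EtModWLib.EpsMod
import Groth.Agent.EtModWLib.MapSystems
import Groth.Agent.ProEtDCLib.Sheaf
import Mathlib.Algebra.Homology.ShortComplex.ExactFunctor

/-! sections of adic systems over weakly contractible objects -/

universe u

open CategoryTheory CategoryTheory.Limits AlgebraicGeometry Opposite

namespace Groth.Agent.EtModWLib

open ProEtDCLib (sec)

set_option backward.isDefEq.respectTransparency.types false

variable {Λ : Type (u + 1)} [CommRing Λ] {X : Scheme.{u}}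

instance sec_linear (V : X.ProEt) : (sec Λ V).Linear Λ where

theorem sec_preservesFiniteColimits {V : X.ProEt} (hV : ProEtS.IsWC V) : PreservesFiniteColimits (sec Λ V) :=
  have := ProEtDCLib.preservesHomology_sec Λ hV
  Functor.preservesFiniteColimits_of_preservesHomology _

/-- morphisms agreeing on sections over weakly contractible objects agree -/
theorem hom_ext_of_wc {F G : EtModW.ModP Λ X} (φ ψ : F ⟶ G)
    (h : ∀ V : X.ProEt, ProEtS.IsWC V → ∀ x, (sec Λ V).map φ x = (sec Λ V).map ψ x) : φ = ψ := by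
  ext U x
  obtain ⟨V, g, hg, hV⟩ := ProEtLib.exists_wc_cover U.unop
  have hG := (((isSheaf_iff_isSheaf_of_type _ _).1
    ((sheafCompose _ (forget (ModuleCat.{u + 1} Λ))).obj G).2) _ hg)
  refine ((Presieve.isSheafFor_iff_generate _).2 hG).isSeparatedFor.ext ?_
  rintro _ _ ⟨⟩
  exact ((NatTrans.naturality_apply φ.hom g.op x).symm.trans (h V hV _)).trans
    (NatTrans.naturality_apply ψ.hom g.op x)

theorem exists_sec_limit (D : ARSys.PS (EtModW.ModP Λ X)) (V : X.ProEt)
    (x : (limit (D ⋙ sec Λ V) : ModuleCat.{u + 1} Λ)) :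
    ∃ z : (sec Λ V).obj (limit D), ∀ n, (sec Λ V).map (limit.π D n) z = limit.π (D ⋙ sec Λ V) n x :=
  ⟨(preservesLimitIso (sec Λ V) D).inv x, fun n => by
    rw [← ConcreteCategory.comp_apply, preservesLimitIso_inv_π]⟩

theorem sec_limit_π (D : ARSys.PS (EtModW.ModP Λ X)) (V : X.ProEt) (n : ℕᵒᵖ) (z : (sec Λ V).obj (limit D)) :
    limit.π (D ⋙ sec Λ V) n ((preservesLimitIso (sec Λ V) D).hom z) = (sec Λ V).map (limit.π D n) z := by
  rw [← ConcreteCategory.comp_apply, preservesLimitIso_hom_π]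

theorem sec_limit_ext (D : ARSys.PS (EtModW.ModP Λ X)) {V : X.ProEt} {z z' : (sec Λ V).obj (limit D)}
    (h : ∀ n, (sec Λ V).map (limit.π D n) z = (sec Λ V).map (limit.π D n) z') : z = z' := by
  refine (preservesLimitIso (sec Λ V) D).toLinearEquiv.injective (limit_ext _ fun n => ?_)
  exact (sec_limit_π D V (op n) z).trans ((h (op n)).trans (sec_limit_π D V (op n) z').symm)

variable [ProEtS.EpsCont X] {I : Ideal Λ}

theorem isAdic_sec (hI : I.FG) {G : ARSys.PS (EtModW.Mod Λ X)} (hG : ARSys.IsAdic I G) {V : X.ProEt}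
    (hV : ProEtS.IsWC V) : ARSys.IsAdic I ((G ⋙ EtModW.epsPullMod Λ X) ⋙ sec Λ V) :=
  have := sec_preservesFiniteColimits (Λ := Λ) hV
  isAdic_map_of_fg (sec Λ V) (fun k => Submodule.FG.pow hI k)
    (isAdic_map (EtModW.epsPullMod Λ X) (epsAdjMod (Λ := Λ) (X := X)) hG)

/-- the projections from the limit of an adic system of etale sheaves are quotient maps -/
theorem isQuot_limit_π (hI : I.FG) {G : ARSys.PS (EtModW.Mod Λ X)} (hG : ARSys.IsAdic I G) (n : ℕ) :
    ARSys.IsQuot (I ^ (n + 1)) (limit.π (G ⋙ EtModW.epsPullMod Λ X) (op n)) := by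
  let D := G ⋙ EtModW.epsPullMod Λ X
  have : Epi (limit.π D (op n)) := ProEtDCLib.epi_of_wc _ fun V hV y => by
    obtain ⟨x, hx⟩ := surjective_π _ (ARLib.isStrict_of_isAdic (isAdic_sec hI hG hV)) n y
    obtain ⟨z, hz⟩ := exists_sec_limit D V x
    exact ⟨z, (hz _).trans hx⟩
  refine ⟨(isAdic_map (EtModW.epsPullMod Λ X) (epsAdjMod (Λ := Λ) (X := X)) hG).1 n, fun Y φ hφ => ?_⟩
  have hk : kernel.ι (limit.π D (op n)) ≫ φ = 0 := hom_ext_of_wc _ _ fun V hV x => by
    let z := (sec Λ V).map (kernel.ι (limit.π D (op n))) x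
    have hz : limit.π (D ⋙ sec Λ V) (op n) ((preservesLimitIso (sec Λ V) D).hom z) = 0 := by
      rw [sec_limit_π, ← ConcreteCategory.comp_apply, ← Functor.map_comp, kernel.condition, Functor.map_zero]
      rfl
    have hmem := mem_smul_of_π_eq_zero hI (isAdic_sec hI hG hV) n hz
    obtain ⟨z', hz'⟩ : ∃ z', z' = (preservesLimitIso (sec Λ V) D).hom z := ⟨_, rfl⟩
    rw [← hz'] at hmem
    have key : (sec Λ V).map φ ((preservesLimitIso (sec Λ V) D).inv z') = 0 := by
      refine Submodule.smul_induction_on hmem (fun a ha w _ => ?_) fun p q hp hq => by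
        rw [map_add, map_add, hp, hq, add_zero]
      rw [map_smul, map_smul]
      exact ConcreteCategory.congr_hom (congrArg (sec Λ V).map (hφ a ha)) _
    rw [hz', ← ConcreteCategory.comp_apply _ (preservesLimitIso (sec Λ V) D).inv, Iso.hom_inv_id] at key
    rw [Functor.map_comp, Functor.map_zero]
    exact (ConcreteCategory.comp_apply _ _ x).trans key
  exact ⟨Abelian.epiDesc _ φ hk, Abelian.comp_epiDesc _ _ _, fun ψ hψ => by
    rw [← cancel_epi (limit.π D (op n)), Abelian.comp_epiDesc]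
    exact hψ⟩

end Groth.Agent.EtModWLib
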