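import Groth.Agent.EtModWLib.Noeth.ModSys
import Mathlib.RingTheory.Ideal.Operations
import Mathlib.Algebra.Category.ModuleCat.Abelian

/-! limits of adic towers of modules: the projections are quotient maps -/

universe v u

open CategoryTheory CategoryTheory.Limits Opposite

namespace Groth.Agent.EtModWLib

variable {Λ : Type u} [CommRing Λ]

theorem ker_le_of_isQuot {J : Ideal Λ} {M Q : ModuleCat.{v} Λ} {p : M ⟶ Q} (h : ARSys.IsQuot J p) {x : M}
    (hx : p x = 0) : x ∈ J • (⊤ : Submodule Λ M) := by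
  let N := J • (⊤ : Submodule Λ M)
  obtain ⟨ψ, hψ, -⟩ := h.2 (ModuleCat.of Λ (M ⧸ N)) (ModuleCat.ofHom N.mkQ) fun a ha =>
    ModuleCat.hom_ext (LinearMap.ext fun y =>
      (Submodule.Quotient.mk_eq_zero N (x := a • y)).2 (Submodule.smul_mem_smul ha trivial))
  refine (Submodule.Quotient.mk_eq_zero N).1 ?_
  refine (ConcreteCategory.congr_hom hψ x).symm.trans ((ConcreteCategory.comp_apply _ _ x).trans ?_)
  rw [hx, map_zero]

theorem eq_zero_of_killedBy {J : Ideal Λ} {M : ModuleCat.{v} Λ} (h : ARSys.KilledBy J M) {x : M}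
    (hx : x ∈ J • (⊤ : Submodule Λ M)) : x = 0 := by
  refine Submodule.smul_induction_on hx (fun a ha m _ => ?_) fun x y hx hy => by rw [hx, hy, add_zero]
  exact ConcreteCategory.congr_hom (h a ha) m

theorem exists_coeffs {ι : Type*} [Fintype ι] (a : ι → Λ) {J : Ideal Λ} (hJ : J ≤ Ideal.span (Set.range a))
    {M : Type v} [AddCommGroup M] [Module Λ M] (N : Submodule Λ M) {x : M} (hx : x ∈ J • N) :
    ∃ w : ι → M, (∀ i, w i ∈ N) ∧ x = ∑ i, a i • w i := by
  refine Submodule.smul_induction_on hx (fun c hc m hm => ?_) fun x y ⟨v, hv, ev⟩ ⟨w, hw, ew⟩ =>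
    ⟨v + w, fun i => N.add_mem (hv i) (hw i), by
      rw [ev, ew, ← Finset.sum_add_distrib]
      exact Finset.sum_congr rfl fun i _ => (smul_add _ _ _).symm⟩
  obtain ⟨d, hd⟩ := (Submodule.mem_span_range_iff_exists_fun Λ).1 (hJ hc)
  refine ⟨fun i => d i • m, fun i => N.smul_mem _ hm, ?_⟩
  rw [← hd, Finset.sum_smul]
  exact Finset.sum_congr rfl fun i _ => by rw [smul_eq_mul, mul_comm, mul_smul]

/-- elements of the limit vanishing in degree `n` are multiples by the `n+1`st power -/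
theorem mem_smul_of_π_eq_zero {I : Ideal Λ} (hI : I.FG) {M : ARSys.PS (ModuleCat.{v} Λ)} (hM : ARSys.IsAdic I M)
    (n : ℕ) {x : (limit M : ModuleCat.{v} Λ)} (hx : limit.π M (op n) x = 0) :
    x ∈ (I ^ (n + 1)) • (⊤ : Submodule Λ (limit M : ModuleCat.{v} Λ)) := by
  obtain ⟨t, a, ha⟩ := Submodule.fg_iff_exists_fin_generating_family.1 (Submodule.FG.pow hI (n + 1))
  have hs : ∀ i j (h : i ≤ j), Function.Surjective (ARSys.tr M h) := fun i j h =>
    (ModuleCat.epi_iff_surjective _).1 (ARLib.isStrict_of_isAdic hM i j h)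
  let P : ∀ k, (Fin t → M.obj (op (k + n + 1))) → Prop := fun k Y => ∑ j, a j • Y j = limit.π M (op (k + n + 1)) x
  obtain ⟨Y₀, -, hY₀⟩ := exists_coeffs a ha.ge ⊤ (ker_le_of_isQuot (hM.2 n (0 + n + 1) (by omega))
    (x := limit.π M (op (0 + n + 1)) x) (by rw [π_tr_apply, hx]))
  have step : ∀ k (Y : {Y // P k Y}), ∃ Y' : {Y' // P (k + 1) Y'},
      ∀ j, ARSys.tr M (show k ≤ k + 1 + n + 1 by omega) (Y'.1 j) = ARSys.tr M (show k ≤ k + n + 1 by omega) (Y.1 j) := by
    intro k ⟨Y, hY⟩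
    choose z hz using fun j => hs (k + n + 1) (k + 1 + n + 1) (by omega) (Y j)
    let d := limit.π M (op (k + 1 + n + 1)) x - ∑ j, a j • z j
    have hd : d ∈ (I ^ (n + 1) * I ^ (k + 1)) • (⊤ : Submodule Λ (M.obj (op (k + 1 + n + 1)))) := by
      rw [← pow_add, show n + 1 + (k + 1) = k + n + 1 + 1 by omega]
      refine ker_le_of_isQuot (hM.2 (k + n + 1) (k + 1 + n + 1) (by omega)) ?_
      simp only [d, map_sub, map_sum, map_smul, hz, π_tr_apply]
      exact sub_eq_zero.2 hY.symm
    rw [Submodule.mul_smul] at hd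
    obtain ⟨w, hw, ew⟩ := exists_coeffs a ha.ge _ hd
    refine ⟨⟨fun j => z j + w j, ?_⟩, fun j => ?_⟩
    · simp only [P, smul_add, Finset.sum_add_distrib, ← ew, d, add_sub_cancel]
    · rw [map_add, show ARSys.tr M (show k ≤ k + 1 + n + 1 by omega) (w j) = 0 from ?_, add_zero]
      · show _ = ARSys.tr M _ (Y j)
        rw [← hz j, tr_tr_apply]
      · refine Submodule.smul_induction_on (hw j) (fun c hc m _ => ?_) fun p q hp hq => by rw [map_add, hp, hq, add_zero]
        rw [map_smul]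
        exact ConcreteCategory.congr_hom (hM.1 k c hc) _
  choose g hg using step
  let Y : ∀ k, {Y // P k Y} := Nat.rec ⟨Y₀, hY₀.symm⟩ g
  have hcompat : ∀ j i k (h : i ≤ k), ARSys.tr M (show i ≤ k + n + 1 by omega) ((Y k).1 j) =
      ARSys.tr M (show i ≤ i + n + 1 by omega) ((Y i).1 j) := fun j i k h => by
    induction k, h using Nat.le_induction with
    | base => rfl
    | succ k h ih =>
      rw [← tr_tr_apply M h (show k ≤ k + 1 + n + 1 by omega)]
      exact (congrArg _ (hg k (Y k) j)).trans ((tr_tr_apply M _ _ _).trans ih)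
  have hlim : ∀ j, ∃ y : (limit M : ModuleCat.{v} Λ),
      ∀ k, limit.π M (op k) y = ARSys.tr M (show k ≤ k + n + 1 by omega) ((Y k).1 j) := fun j =>
    exists_limit_elem M _ fun i k h => by rw [tr_tr_apply, hcompat j i k h]
  choose y hy using hlim
  have e : x = ∑ j, a j • y j := limit_ext M fun k => by
    rw [map_sum]
    simp only [map_smul, hy]
    have := congrArg (ARSys.tr M (show k ≤ k + n + 1 by omega)) (Y k).2
    simp only [map_sum, map_smul, π_tr_apply] at this
    exact this.symm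
  rw [e]
  exact Submodule.sum_mem _ fun j _ => Submodule.smul_mem_smul (ha.le (Submodule.subset_span ⟨j, rfl⟩)) trivial

end Groth.Agent.EtModWLib
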